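import Cfsg.Agent.MCN.Defs
import Cfsg.Agent.Trans.QuadPair

/-! Flags and operators raising them. -/

set_option autoImplicit false

namespace Cfsg.Lib.MCN

open Cfsg Subgroup Cfsg.Lib.Fus Cfsg.Lib.Fus.Ess Cfsg.Lib.Grz Cfsg.Lib.Solv

section Lin
variable {k V : Type*} [Field k] [AddCommGroup V] [Module k V] {F : ℕ → Submodule k V}
  {x y N : Module.End k V} {r r' d : ℕ}

theorem Rs.mul (hx : Rs F x r) (hy : Rs F y r') : Rs F (x * y) (r + r') := fun a v hv => by
  have := hx _ _ (hy a v hv)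
  rwa [show a + r' + r = a + (r + r') by omega] at this

theorem Rs.add (hx : Rs F x r) (hy : Rs F y r) : Rs F (x + y) r := fun a v hv =>
  (F _).add_mem (hx a v hv) (hy a v hv)

theorem Rs.sub (hx : Rs F x r) (hy : Rs F y r) : Rs F (x - y) r := fun a v hv =>
  (F _).sub_mem (hx a v hv) (hy a v hv)

theorem Rs.neg (hx : Rs F x r) : Rs F (-x) r := fun a v hv => (F _).neg_mem (hx a v hv)

theorem Rs.smul (c : k) (hx : Rs F x r) : Rs F (c • x) r := fun a v hv =>
  (F _).smul_mem c (hx a v hv)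

theorem rs_one : Rs F (1 : Module.End k V) 0 := fun _ _ hv => hv

theorem rs_zero : Rs F (0 : Module.End k V) r := fun _ _ _ => (F _).zero_mem

theorem Rs.pow (hx : Rs F x r) (n : ℕ) : Rs F (x ^ n) (n * r) := by
  induction n with
  | zero => simpa using rs_one
  | succ n ih => rw [pow_succ, add_mul, one_mul]; exact ih.mul hx

theorem Rs.mono (hF : Antitone F) (hx : Rs F x r) (h : r' ≤ r) : Rs F x r' := fun a v hv =>
  hF (by omega) (hx a v hv)

theorem Rs.of_sub_one (hF : Antitone F) (hx : Rs F (x - 1) r) : Rs F x 0 := by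
  have := (hx.mono hF (Nat.zero_le r)).add rs_one
  rwa [sub_add_cancel] at this

theorem Rs.mul_sub_one (hF : Antitone F) (hx : Rs F (x - 1) r) (hy : Rs F (y - 1) r) :
    Rs F (x * y - 1) r := by
  have := ((hx.of_sub_one hF).mul hy)
  rw [zero_add] at this
  have h := this.add hx
  rwa [show x * (y - 1) + (x - 1) = x * y - 1 by noncomm_ring] at h

theorem Rs.pow_sub_one' (hF : Antitone F) (hx : Rs F (x - 1) r) (n : ℕ) : Rs F (x ^ n - 1) r := by
  induction n with
  | zero => simpa using rs_zero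
  | succ n ih => rw [pow_succ]; exact ih.mul_sub_one hF hx

theorem Rs.pow_sub_one (hF : Antitone F) (hx : Rs F (x - 1) r) (n : ℕ) :
    Rs F (x ^ n - 1 - (n : k) • (x - 1)) (r + r) := by
  induction n with
  | zero => simpa using rs_zero
  | succ n ih =>
    have := ih.add ((hx.pow_sub_one' hF n).mul hx)
    convert this using 1
    rw [Nat.cast_succ, add_smul, one_smul, pow_succ]
    noncomm_ring

theorem Ex.rs (hx : Ex F x r) : Rs F x r := fun a _ hv => hx a ▸ Submodule.mem_map_of_mem hv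

theorem Ex.mul (hx : Ex F x r) (hy : Ex F y r') : Ex F (x * y) (r + r') := fun a => by
  rw [Module.End.mul_eq_comp, Submodule.map_comp, hy, hx]
  congr 1; omega

theorem Ex.pow (hx : Ex F x r) (n : ℕ) : Ex F (x ^ n) (n * r) := by
  induction n with
  | zero => intro a; simp [Module.End.one_eq_id]
  | succ n ih => rw [pow_succ, add_mul, one_mul]; exact ih.mul hx

theorem Flag.eq_bot (h : Flag F d) {a : ℕ} (ha : d ≤ a) : F a = ⊥ :=
  le_bot_iff.1 (h.bot ▸ h.anti ha)

theorem Flag.le_iff (h : Flag F d) {a b : ℕ} (ha : a < d) : F a ≤ F b ↔ b ≤ a :=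
  ⟨fun e => not_lt.1 fun hab => h.ne a ha (e.trans (h.anti hab)), fun e => h.anti e⟩

theorem Flag.mem_zero (h : Flag F d) (v : V) : v ∈ F 0 := h.zero ▸ Submodule.mem_top

theorem Flag.eq_zero (h : Flag F d) (hx : Rs F x r) (hr : d ≤ r) : x = 0 := LinearMap.ext fun v => by
  have := hx 0 v (h.mem_zero v)
  rwa [h.eq_bot (by omega), Submodule.mem_bot] at this

/-- downward induction: `X ⊔ F (n + 1) ≥ F n` for `a ≤ n < c`. -/
theorem le_of_steps {X : Submodule k V} {a c : ℕ} (hc : F c ≤ X)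
    (h : ∀ n, a ≤ n → n < c → F n ≤ X ⊔ F (n + 1)) (hac : a ≤ c) : F a ≤ X := by
  induction hac using Nat.decreasingInduction with
  | self => exact hc
  | of_succ n hn ih =>
    exact (h n le_rfl hn).trans (sup_le le_rfl (ih fun j hj => h j (by omega)))

theorem Flag.le_sup (h : Flag F d) {X : Submodule k V} {a : ℕ} {v : V} (hv : v ∈ F a)
    (hv' : v ∉ F (a + 1)) (hX : v ∈ X) : F a ≤ X ⊔ F (a + 1) := fun w hw => by
  obtain ⟨c, hc⟩ := h.step a v hv hv' w hw
  have := Submodule.add_mem_sup (X.smul_mem c hX) hc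
  rwa [add_sub_cancel] at this

theorem Flag.ex_of (h : Flag F d) (hx : Rs F x r)
    (h' : ∀ a, a + r < d → ∃ v ∈ F a, x v ∉ F (a + r + 1)) : Ex F x r := fun a => by
  refine le_antisymm (Submodule.map_le_iff_le_comap.2 (hx a)) ?_
  rcases le_or_gt d (a + r) with e | e
  · rw [h.eq_bot e]; exact bot_le
  refine le_of_steps (c := d) (h.bot ▸ bot_le) (fun n h1 h2 => ?_) e.le
  obtain ⟨b, rfl⟩ : ∃ b, n = b + r := ⟨n - r, by omega⟩
  obtain ⟨v, hv, hv'⟩ := h' b h2
  exact h.le_sup (hx b v hv) hv' (Submodule.mem_map_of_mem (h.anti (by omega) hv))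

theorem Ex.exists_not_mem (h : Flag F d) (hx : Ex F x r) {a : ℕ} (ha : a + r < d) :
    ∃ v ∈ F a, x v ∉ F (a + r + 1) := by
  by_contra e
  push Not at e
  exact h.ne _ ha (hx a ▸ Submodule.map_le_iff_le_comap.2 e)

theorem Ex.add_rs (h : Flag F d) (hx : Ex F x r) (hy : Rs F y (r + 1)) {c : k} (hc : c ≠ 0) :
    Ex F (c • x + y) r := by
  refine h.ex_of ((hx.rs.smul c).add (hy.mono h.anti (by omega))) fun a ha => ?_
  obtain ⟨v, hv, hv'⟩ := hx.exists_not_mem h ha
  refine ⟨v, hv, fun e => hv' ?_⟩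
  have := (F _).sub_mem e (hy a v hv)
  rwa [LinearMap.add_apply, add_sub_cancel_right, LinearMap.smul_apply,
    Submodule.smul_mem_iff _ hc] at this

theorem Ex.not_mem (h : Flag F d) (hx : Ex F x r) {a : ℕ} {v : V} (hv : v ∈ F a)
    (hv' : v ∉ F (a + 1)) (ha : a + r < d) : x v ∉ F (a + r + 1) := fun e => by
  obtain ⟨w, hw, hw'⟩ := hx.exists_not_mem h ha
  obtain ⟨c, hc⟩ := h.step a v hv hv' w hw
  have h1 := hx.rs _ _ hc
  rw [map_sub, map_smul, show a + 1 + r = a + r + 1 by omega] at h1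
  exact hw' (by simpa using (F _).add_mem h1 ((F _).smul_mem c e))

theorem Ex.ker_eq (h : Flag F d) (hx : Ex F x r) (hr : r ≤ d) : LinearMap.ker x = F (d - r) := by
  refine le_antisymm (fun v hv => ?_) fun v hv => ?_
  · have : ∀ a ≤ d - r, v ∈ F a := fun a ha => by
      induction a with
      | zero => exact h.mem_zero v
      | succ a ih =>
        by_contra e
        exact hx.not_mem h (ih (by omega)) e (by omega) (LinearMap.mem_ker.1 hv ▸ (F _).zero_mem)
    exact this _ le_rfl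
  · have := hx.rs _ _ hv
    rwa [h.eq_bot (by omega)] at this

theorem Ex.range_eq (h : Flag F d) (hx : Ex F x r) : LinearMap.range x = F r := by
  rw [← Submodule.map_top, ← h.zero, hx, zero_add]

theorem Flag.exists_phi (h : Flag F d) (hd : 0 < d) :
    ∃ (φ : V →ₗ[k] k) (v₀ : V), φ v₀ = 1 ∧ ∀ v, φ v = 0 ↔ v ∈ F 1 := by
  obtain ⟨v₀, h0, h1⟩ := SetLike.not_le_iff_exists.1 (h.ne 0 hd)
  obtain ⟨φ, h2, h3⟩ := (F (0 + 1)).exists_dual_map_eq_bot_of_notMem h1 inferInstance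
  have h4 : ∀ v ∈ F 1, φ v = 0 := fun v hv =>
    (Submodule.mem_bot k).1 (h3 ▸ Submodule.mem_map_of_mem hv)
  refine ⟨(φ v₀)⁻¹ • φ, v₀, by simp [h2], fun v => ⟨fun e => ?_, fun e => by simp [h4 v e]⟩⟩
  obtain ⟨c, hc⟩ := h.step 0 v₀ h0 h1 v (h.mem_zero v)
  have h5 := h4 _ hc
  have h6 : φ v = 0 := by simpa [h2] using e
  rw [map_sub, map_smul, h6, zero_sub, neg_eq_zero, smul_eq_mul, mul_eq_zero] at h5
  simpa [h5.resolve_right h2] using hc

/-- An operator commuting with a regular nilpotent one. -/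
theorem Flag.rs_of_comm (h : Flag F d) (hN : Ex F N 1) (hc : x * N = N * x)
    (hx : ∀ v, x v ∈ F r) : Rs F x r := fun a v hv => by
  have h1 := (hN.pow a).range_eq h
  rw [mul_one] at h1
  obtain ⟨u, rfl⟩ := h1.ge hv
  have := (hN.pow a).rs _ _ (hx u)
  rw [mul_one, add_comm] at this
  rwa [← Module.End.mul_apply, (Commute.pow_right hc a).eq]

theorem Flag.exists_lead (h : Flag F d) (hN : Ex F N 1) (hc : x * N = N * x) (hx : Rs F x r) :
    ∃ c : k, Rs F (x - c • N ^ r) (r + 1) := by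
  rcases le_or_gt d r with e | e
  · exact ⟨0, by rw [h.eq_zero hx e, zero_smul, sub_zero]; exact rs_zero⟩
  obtain ⟨v₀, h0, h1⟩ := SetLike.not_le_iff_exists.1 (h.ne 0 (by omega))
  have hr := hN.pow r
  rw [mul_one] at hr
  obtain ⟨c, h2⟩ := h.step _ _ (hr.rs 0 v₀ h0) (hr.not_mem h h0 h1 (by omega)) _ (hx 0 v₀ h0)
  refine ⟨c, h.rs_of_comm hN ?_ fun v => ?_⟩
  · rw [sub_mul, mul_sub, hc, smul_mul_assoc, mul_smul_comm, ← pow_succ, ← pow_succ']
  · obtain ⟨t, ht⟩ := h.step 0 v₀ h0 h1 v (h.mem_zero v)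
    have h3 := (hx.sub (hr.rs.smul c)) _ _ ht
    rw [map_sub, map_smul, show 0 + 1 + r = r + 1 by omega] at h3
    rw [zero_add] at h2
    simpa using (F _).add_mem h3 ((F _).smul_mem t h2)

theorem Flag.exists_ex (h : Flag F d) (hN : Ex F N 1) (hc : x * N = N * x) (hx : x ≠ 0) :
    ∃ m < d, Ex F x m := by
  by_contra e
  push Not at e
  have : ∀ r ≤ d, Rs F x r := fun r hr => by
    induction r with
    | zero => exact h.rs_of_comm hN hc fun v => h.mem_zero _
    | succ r ih =>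
      obtain ⟨c, h1⟩ := h.exists_lead hN hc (ih (by omega))
      by_cases h2 : c = 0
      · simpa [h2] using h1
      · have := (hN.pow r).add_rs h (by rwa [mul_one]) h2
        rw [add_sub_cancel, mul_one] at this
        exact (e r (by omega) this).elim
  exact hx (h.eq_zero (this d le_rfl) le_rfl)

variable {G : Type*} [Group G] {ρ : G →* Module.End k V} {p : ℕ} [Fact p.Prime] [CharP k p]

/-- The stability group of a chain. -/
theorem exists_chain_sub (hρ : Function.Injective ρ) (L : Subgroup G) (U : ℕ → Submodule k V)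
    (n : ℕ) (h0 : U 0 = ⊤) (hn : U n = ⊥) (hU : ∀ g ∈ L, Rs U (ρ g) 0) :
    ∃ M : Subgroup G, M ≤ L ∧ IsPGroup p M ∧ (∀ g ∈ L, ∀ a ∈ M, g * a * g⁻¹ ∈ M) ∧
      ∀ a ∈ L, Rs U (ρ a - 1) 1 → a ∈ M := by
  have e : ∀ g : G, ρ g * ρ g⁻¹ = 1 := fun g => by rw [← map_mul, mul_inv_cancel, map_one]
  let M : Subgroup G :=
    { carrier := {a | a ∈ L ∧ Rs U (ρ a - 1) 1}
      one_mem' := ⟨L.one_mem, by simpa using rs_zero⟩
      mul_mem' := fun {a b} ha hb => ⟨L.mul_mem ha.1 hb.1, by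
        have := ((hU a ha.1).mul hb.2).add ha.2
        rwa [show ρ a * (ρ b - 1) + (ρ a - 1) = ρ (a * b) - 1 by rw [map_mul]; noncomm_ring] at this⟩
      inv_mem' := fun {a} ha => ⟨L.inv_mem ha.1, by
        have := ((hU _ (L.inv_mem ha.1)).mul ha.2).neg
        rwa [mul_sub, ← map_mul, inv_mul_cancel, map_one, mul_one, neg_sub] at this⟩ }
  refine ⟨M, fun _ h => h.1, fun a => ?_, fun g hg a ha => ⟨?_, ?_⟩, fun a ha h => ⟨ha, h⟩⟩
  · obtain ⟨j, hj⟩ := Trans.Quad.exists_pow_eq_one_of_isNilpotent (K := k) p (x := ρ a.1)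
      ⟨n, LinearMap.ext fun v => by
        have := a.2.2.pow n 0 v (h0 ▸ Submodule.mem_top)
        rwa [mul_one, zero_add, hn] at this⟩
    exact ⟨j, Subtype.ext (hρ (by simpa using hj))⟩
  · exact L.mul_mem (L.mul_mem hg ha.1) (L.inv_mem hg)
  · have := ((hU g hg).mul ha.2).mul (hU _ (L.inv_mem hg))
    rwa [mul_sub, sub_mul, mul_one, e, ← map_mul, ← map_mul] at this
end Lin

section LinD
variable {p : ℕ} [hp : Fact p.Prime] {V : Type*} [AddCommGroup V] [Module (ZMod p) V]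
  {G : Type*} [Group G] {ρ : G →* Module.End (ZMod p) V} {P : Subgroup G}
  {F : ℕ → Submodule (ZMod p) V} {d m : ℕ} {s z g a : G}

theorem LD.pow_eq_one (h : LD p ρ P F d s z m) (ha : a ∈ P) : a ^ p = 1 := by
  have h1 := h.flag.eq_zero ((h.rs a ha).pow p) (by simpa using h.d_le)
  rcases subsingleton_or_nontrivial (Module.End (ZMod p) V) with hs | hs
  · exact h.inj (Subsingleton.elim _ _)
  have : CharP (Module.End (ZMod p) V) p :=
    charP_of_injective_algebraMap (algebraMap (ZMod p) _).injective p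
  rw [sub_pow_char_of_commute _ (Commute.one_right _), one_pow, sub_eq_zero, ← map_pow] at h1
  exact h.inj (h1.trans ρ.map_one.symm)

theorem LD.s_pow (h : LD p ρ P F d s z m) : s ^ p = 1 := h.pow_eq_one h.s_mem

theorem LD.z_pow (h : LD p ρ P F d s z m) : z ^ p = 1 := h.pow_eq_one h.z_mem

theorem LD.ne_one (h : LD p ρ P F d s z m) {r : ℕ} (hr : r < d) (ha : Ex F (ρ a - 1) r) : a ≠ 1 :=
  fun e => by
    obtain ⟨v, -, hv⟩ := ha.exists_not_mem h.flag (a := 0) (by omega)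
    exact hv (by simp [e])

theorem LD.z_ne (h : LD p ρ P F d s z m) : z ≠ 1 := h.ne_one h.lt h.z_ex

/-- `s ^ i z ^ j` with `i` prime to `p` is regular. -/
theorem LD.ex_pow (h : LD p ρ P F d s z m) {i : ℕ} (hi : ¬ p ∣ i) (j : ℕ) :
    Ex F (ρ (s ^ i * z ^ j) - 1) 1 := by
  have hF := h.flag.anti
  have h1 := h.s_ex.rs.pow_sub_one hF i
  have h2 := (((h.s_ex.rs.pow_sub_one' hF i).of_sub_one hF).mul
    ((h.z_ex.rs.mono hF h.two_le).pow_sub_one' hF j))
  have := h.s_ex.add_rs h.flag (h1.add h2) (c := (i : ZMod p))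
    fun e => hi ((ZMod.natCast_eq_zero_iff i p).1 e)
  convert this using 1
  rw [map_mul, map_pow, map_pow]
  noncomm_ring

theorem LD.pow_mul_pow_eq_one (h : LD p ρ P F d s z m) {i j : ℕ} (e : s ^ i * z ^ j = 1) :
    p ∣ i ∧ p ∣ j := by
  have hi : p ∣ i := by
    by_contra hi
    exact h.ne_one (by have := h.two_le; have := h.lt; omega) (h.ex_pow hi j) e
  refine ⟨hi, ?_⟩
  obtain ⟨c, rfl⟩ := hi
  rw [pow_mul, h.s_pow, one_pow, one_mul] at e
  rw [← orderOf_eq_prime h.z_pow h.z_ne]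
  exact orderOf_dvd_of_pow_eq_one e

theorem LD.rs_of_ex (h : LD p ρ P F d s z m) (ha : Ex F (ρ a - 1) 1) (e : g⁻¹ * a * g ∈ P) :
    Rs F (ρ g⁻¹) 0 := fun b v hv => by
  have h1 := (ha.pow b).range_eq h.flag
  rw [mul_one] at h1
  obtain ⟨u, rfl⟩ := h1.ge hv
  have h2 := (h.rs _ e).pow b 0 (ρ g⁻¹ u) (h.flag.mem_zero _)
  have h3 : SemiconjBy (ρ g⁻¹) (ρ a - 1) (ρ (g⁻¹ * a * g) - 1) := by
    rw [SemiconjBy, mul_sub, sub_mul, mul_one, one_mul, ← map_mul, ← map_mul, mul_inv_cancel_right]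
  rw [← Module.End.mul_apply, ← (h3.pow_right b).eq, mul_one, zero_add] at h2
  exact h2

variable [Finite G]

/-- A `p`-subgroup normalized by `P` lies in `P`. -/
theorem LD.le_of_normalized (h : LD p ρ P F d s z m) {M : Subgroup G} (hM : IsPGroup p M)
    (hn : ∀ g ∈ P, ∀ a ∈ M, g * a * g⁻¹ ∈ M) : M ≤ P :=
  le_sup_right.trans (h.syl.max _ le_sup_left le_top (h.syl.pgroup.to_sup_of_normal_right' hM
    fun g hg => mem_normalizer_of_finite (hn g hg))).le

/-- The normalizer of `P` is the stabilizer of the flag. -/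
theorem LD.mem_normalizer_iff (h : LD p ρ P F d s z m) :
    g ∈ normalizer (P : Set G) ↔ Rs F (ρ g) 0 := by
  refine ⟨fun hg => ?_, fun hg => ?_⟩
  · have := h.rs_of_ex (g := g⁻¹) h.s_ex (by
      rw [inv_inv]; exact (Subgroup.mem_normalizer_iff.1 hg s).1 h.s_mem)
    rwa [inv_inv] at this
  · let L : Subgroup G := subgroupOfFinite {g | Rs F (ρ g) 0} (by simpa using rs_one)
      fun a b ha hb => by simpa using Rs.mul ha hb
    have hP : P ≤ L := fun x hx => (h.rs x hx).of_sub_one h.flag.anti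
    obtain ⟨M, -, h2, h3, h4⟩ := exists_chain_sub (p := p) h.inj L F d h.flag.zero h.flag.bot
      fun _ hg => hg
    have := h.syl.max M (fun x hx => h4 x (hP hx) (h.rs x hx)) le_top h2
    subst this
    exact mem_normalizer_of_finite (h3 g hg)

theorem LD.mem_normalizer_of_ex (h : LD p ρ P F d s z m) (ha : Ex F (ρ a - 1) 1)
    (e : g⁻¹ * a * g ∈ P) : g ∈ normalizer (P : Set G) :=
  inv_mem_iff.1 (h.mem_normalizer_iff.2 (h.rs_of_ex ha e))
end LinD

end Cfsg.Lib.MCN
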