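import Cfsg.Agent.MCN.QS

/-! The single block lemma. -/

set_option autoImplicit false

namespace Cfsg.Lib.MCN

open Subgroup
open scoped commutatorElement

variable {p : ℕ} [Fact p.Prime]

/-- The subgroup `{1, -1}`. -/
def pmOne (p : ℕ) [Fact p.Prime] : Subgroup (SLb p) where
  carrier := {x | x = 1 ∨ x = -1}
  one_mem' := .inl rfl
  mul_mem' := by rintro _ _ (rfl | rfl) (rfl | rfl) <;> simp
  inv_mem' := by
    rintro _ (rfl | rfl)
    · simp
    · exact .inr (inv_eq_of_mul_eq_one_right (by simp))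

theorem pmOne_eq_1' : type_of% @pmOne.eq_1 := @pmOne.eq_1

theorem pmOne_comm {x : SLb p} (hx : x ∈ pmOne p) (y : SLb p) : x * y = y * x := by
  rcases hx with rfl | rfl <;> simp

theorem pmOne_sq {x : SLb p} (hx : x ∈ pmOne p) : x * x = 1 := by
  rcases hx with rfl | rfl <;> simp

theorem pmOne_normal : (pmOne p).Normal :=
  ⟨fun x hx g => by rwa [← pmOne_comm hx, mul_inv_cancel_right]⟩

theorem single_block (h5 : 5 ≤ p) {K ι : Type*} [Group K] [Finite K] {z w : K}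
    (hK : closure {z, w} = ⊤) (hz1 : z ≠ 1) (π : ι → (K →* SLb p)) (l : ι → Kb p)
    (hπ : ∀ i, l i ≠ 0 ∧ (π i z : Matrix (Fin 2) (Fin 2) (Kb p)) = !![1, l i; 0, 1] ∧
      (π i w : Matrix (Fin 2) (Fin 2) (Kb p)) = !![1, 0; 1, 1])
    (hker : ∀ x, (∀ i, π i x = 1) → ∃ n, x ^ p ^ n = 1)
    (h1 : ∀ R : Subgroup K, R.Normal → IsPGroup p R → R = ⊥)
    (h2 : ∀ M C : Subgroup K, M.Normal → C.Normal → (∀ x ∈ M, ∀ y ∈ C, x * y = y * x) →
      p ∣ Nat.card M → p ∣ Nat.card C → False) :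
    (∀ x, (∀ i, π i x = 1) → x = 1) ∧ (∃ t, ∀ i, π i t = -1) ∧
      ∀ M : Subgroup K, M.Normal → (∀ x, ∃ n, x ^ p ^ n ∈ M) → M = ⊤ := by
  have hp : p.Prime := Fact.out
  have od : Odd p := hp.odd_of_ne_two (by omega)
  have a : ∀ x, (∀ i, π i x = 1) → x = 1 := fun x hx =>
    (h1 (⨅ i, (π i).ker) (normal_iInf_normal fun i => inferInstance) fun y =>
      (hker y fun i => mem_iInf.1 y.2 i).imp fun n e => Subtype.ext e).le (mem_iInf.2 hx)
  have F := fun i => sl2_facts h5 (hπ i).1 (hπ i).2.1 (hπ i).2.2 (Γ := (π i).range) (by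
    rw [MonoidHom.range_eq_map, ← hK, MonoidHom.map_closure, Set.image_pair])
  let Z : ι → Subgroup K := fun i => (pmOne p).comap (π i)
  have nZ : ∀ i, (Z i).Normal := fun i => pmOne_normal.comap _
  have zZ : ∀ i, z ∉ Z i := fun i e => e.elim (F i).2.2.2.2.2.2.1 (F i).2.2.2.2.2.2.2.1
  have dich : ∀ M : Subgroup K, M.Normal → ∀ i, M.map (π i) = (π i).range ∨ M ≤ Z i := fun M hM i =>
    ((F i).1 _ (map_le_range _ M) (by
      rintro _ ⟨g, rfl⟩ _ ⟨x, hx, rfl⟩
      exact ⟨_, hM.conj_mem x hx g, by simp⟩)).imp_right fun e x hx => e _ ⟨x, hx, rfl⟩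
  have pd : ∀ (N : Subgroup K) i, N.map (π i) = (π i).range → p ∣ Nat.card N := fun N i e => by
    obtain ⟨y, hy, e'⟩ := e.ge ⟨z, rfl⟩
    rw [← orderOf_eq_prime (F i).2.2.2.2.2.1 (F i).2.2.2.2.2.2.1, ← e']
    exact (orderOf_map_dvd _ y).trans (N.orderOf_dvd_natCard hy)
  have key : ∀ M : Subgroup K, M.Normal → ∀ j, M.map (π j) = (π j).range → M = ⊤ := fun M => by
    induction M using WellFoundedLT.induction with
    | ind M ih =>
    intro hM j hj
    have ih' : ∀ N < M, N.Normal → ∀ i, N ≤ Z i := fun N h hN i =>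
      (dich N hN i).resolve_left fun e => h.ne_top (ih N h hN i e)
    let C := ⨅ i : {i // M.map (π i) = (π i).range}, Z i.1
    have nC : C.Normal := normal_iInf_normal fun i => nZ i.1
    have cm : ∀ x ∈ M, ∀ y ∈ C, x * y = y * x := fun x hx y hy =>
      commutatorElement_eq_one_iff_mul_comm.1 (a _ fun i => by
        rw [map_commutatorElement, commutatorElement_eq_one_iff_mul_comm]
        rcases dich M hM i with e | e
        · exact (pmOne_comm (mem_iInf.1 hy ⟨i, e⟩) _).symm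
        · exact pmOne_comm (e hx) _)
    have lt : M ⊓ Z j < M := inf_lt_left.2 fun e => by
      obtain ⟨y, hy, e'⟩ := hj.ge ⟨z, rfl⟩
      exact zZ j (show π j z ∈ pmOne p from e' ▸ e hy)
    have := nZ j
    have dec : ∀ x, ∃ y ∈ M, x * y⁻¹ ∈ C := fun x => by
      obtain ⟨y, hy, e⟩ := hj.ge ⟨x, rfl⟩
      refine ⟨y, hy, mem_iInf.2 fun i => (F i.1).2.2.1 _ ⟨_, rfl⟩ fun g hg => ?_⟩
      obtain ⟨m, hm, rfl⟩ := i.2.ge hg
      rw [← map_commutatorElement]
      refine ih' _ lt inferInstance i.1 ⟨M.mul_mem (hM.conj_mem m hm _) (M.inv_mem hm), .inl ?_⟩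
      rw [map_commutatorElement, map_mul, map_inv, e, mul_inv_cancel, commutatorElement_one_left]
    have CZ : ∀ i, C ≤ Z i := fun i =>
      (dich C nC i).resolve_left fun e => h2 M C hM nC cm (pd M j hj) (pd C i e)
    have mem : ∀ x : K, x ^ p = 1 → x ∈ M := fun x hx => by
      obtain ⟨y, hy, hd⟩ := dec x
      have e1 : x * y⁻¹ * (x * y⁻¹) = 1 := a _ fun i => by rw [map_mul]; exact pmOne_sq (CZ i hd)
      have e2 : x * x = y * y := by
        calc x * x = x * y⁻¹ * (y * (x * y⁻¹)) * y := by group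
          _ = y * y := by rw [cm y hy _ hd, ← mul_assoc, e1, one_mul]
      obtain ⟨k, hk⟩ := od
      have : x = (x * x) ^ (k + 1) := by
        rw [← sq, ← pow_mul, show 2 * (k + 1) = p + 1 by omega, pow_succ, hx, one_mul]
      rw [this, e2]
      exact pow_mem (mul_mem hy hy) _
    refine top_le_iff.1 (hK ▸ (closure_le _).2 ?_)
    rintro _ (rfl | rfl)
    · exact mem _ (a _ fun i => by rw [map_pow]; exact (F i).2.2.2.2.2.1)
    · exact mem _ (a _ fun i => by rw [map_pow]; exact (F i).2.2.2.2.2.2.2.2)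
  have pr : ∀ M : Subgroup K, M.Normal → M ≠ ⊤ → ∀ i, M ≤ Z i := fun M hM h i =>
    (dich M hM i).resolve_left fun e => h (key M hM i e)
  have ZZ : ∀ i j, Z i ≤ Z j := fun i => pr _ (nZ i) fun e => zZ i (e.ge (mem_top z))
  obtain ⟨i0⟩ : Nonempty ι := by
    by_contra e
    exact hz1 (a z fun i => (e ⟨i⟩).elim)
  obtain ⟨_, ⟨x, rfl⟩, hx⟩ := (F i0).2.1
  refine ⟨a, ⟨x * x, fun i => ?_⟩, fun M hM h => ?_⟩
  · refine (ZZ i0 i (.inr (by rw [map_mul, hx]))).resolve_left fun e => (F i0).2.2.2.2.1 ?_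
    rw [map_mul] at e
    exact hx.symm.trans (pmOne_sq (ZZ i i0 ((F i).2.2.2.1 _ e)))
  · by_contra e
    obtain ⟨n, hn⟩ := h x
    have := pmOne_sq (pr M hM e i0 hn)
    rw [map_pow, ← (Commute.refl _).mul_pow, hx, od.pow.neg_one_pow] at this
    exact (F i0).2.2.2.2.1 this

end Cfsg.Lib.MCN
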