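import Cfsg.Agent.MCN.QA
import Cfsg.Agent.MCN.QB

/-! A quadratic element in a group with a strongly embedded subgroup. -/

set_option autoImplicit false

namespace Cfsg.Lib.MCN

open Cfsg Subgroup Cfsg.Lib.Fus Cfsg.Lib.Grz Cfsg.Lib.Solv Cfsg.Lib.Trans.Quad

variable {p : ℕ} [hp : Fact p.Prime] {V : Type*} [AddCommGroup V] [Module (ZMod p) V] [Finite V]
  {G : Type*} [Group G] [Finite G] {ρ : G →* Module.End (ZMod p) V} {P H : Subgroup G} {z : G}

theorem se_conj (hse : SE p ⊤ P H) {r a : G} {n : ℕ} (hr : r ∈ H) (h1 : r ≠ 1)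
    (hn : r ^ p ^ n = 1) (e : a * r * a⁻¹ ∈ H) : a ∈ H := by
  obtain ⟨c, hc, k⟩ := (hse.syl.mono hse.le le_top).exists_conj (zpowers_le.2 hr)
    (PG.isPGroup_zpowers hn)
  have := hse.mem_of_conj_mem (a := c * a⁻¹) trivial (k r (mem_zpowers r))
    (fun e => h1 (by simpa using e)) (by simpa [mul_assoc] using e)
  exact inv_mem_iff.1 ((mul_mem_cancel_left hc).1 this)

theorem se_le (hse : SE p ⊤ P H) (hz : z ∈ P) (h1 : z ≠ 1) {T : Subgroup G} (hT : IsPGroup p T)
    (hzT : z ∈ T) : T ≤ H := fun x hx => by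
  simpa using hse.mem_of_pgroup (a := 1) (b := x) trivial trivial hz h1 hz h1 hT (by simpa using hzT)
    (T.mul_mem (T.mul_mem hx hzT) (T.inv_mem hx))

theorem se_pair (hse : SE p ⊤ P H) (hz : z ∈ P) (h1 : z ≠ 1) {g : G} (hg : g ∉ H) {K : Subgroup G}
    (hK : K = closure {z, g * z * g⁻¹}) :
    (∀ R : Subgroup K, R.Normal → IsPGroup p R → R = ⊥) ∧
      ∀ M C : Subgroup K, M.Normal → C.Normal → (∀ x ∈ M, ∀ y ∈ C, x * y = y * x) →
        p ∣ Nat.card M → p ∣ Nat.card C → False := by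
  have hzK : z ∈ K := hK ▸ subset_closure (by simp)
  have hwK : g * z * g⁻¹ ∈ K := hK ▸ subset_closure (by simp)
  obtain ⟨n, hn⟩ := PG.exists_pow_prime_pow_eq_one hse.syl.pgroup hz
  obtain ⟨T, hT⟩ := (PG.isPGroup_zpowers (x := (⟨z, hzK⟩ : K)) (k := n)
    (Subtype.ext hn)).exists_le_sylow
  have hTH : ∀ x ∈ T, x.1 ∈ H := fun x hx =>
    se_le hse hz h1 (T.isPGroup'.map K.subtype) ⟨_, hT (mem_zpowers _), rfl⟩ ⟨x, hx, rfl⟩
  have k1 : ∀ M : Subgroup K, M.Normal → p ∣ Nat.card M →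
      ∃ r ∈ M, r.1 ∈ H ∧ r.1 ≠ 1 ∧ r.1 ^ p ^ 1 = 1 := fun M hM hd => by
    obtain ⟨r, hr⟩ := exists_prime_orderOf_dvd_card' p hd
    have e : r.1 ^ p ^ 1 = 1 := by
      rw [pow_one, ← hr]; exact congrArg Subtype.val (pow_orderOf_eq_one r)
    obtain ⟨a, -, ha⟩ := (sylIn_top T).exists_conj le_top (PG.isPGroup_zpowers e)
    refine ⟨_, hM.conj_mem _ r.2 a, hTH _ (ha _ (mem_zpowers _)), fun e' => ?_, ?_⟩
    · have : r = 1 := by simpa using e'
      rw [this, orderOf_one] at hr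
      exact hp.out.one_lt.ne hr
    · rw [← coe_pow, conj_pow, e]; simp
  have k2 : ∀ M : Subgroup K, M.Normal → p ∣ Nat.card M → (∀ x ∈ M, x.1 ∈ H) → False :=
    fun M hM hd hH => by
      obtain ⟨r, hr, h2, h3, h4⟩ := k1 M hM hd
      exact hg (se_conj hse (hse.le hz) h1 hn
        (se_conj hse h2 h3 h4 (hH _ (hM.conj_mem r hr ⟨_, hwK⟩))))
  refine ⟨fun R hR hRp => ?_, fun M C hM hC hc h2 h3 => k2 M hM h2 fun x hx => ?_⟩
  · by_contra e
    obtain ⟨k, hk, e'⟩ := hRp.nontrivial_iff_card.1 ((nontrivial_iff_ne_bot R).2 e)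
    exact k2 R hR (e' ▸ dvd_pow_self p hk.ne') fun x hx => hTH x (hRp.le_sylow_of_normal T hx)
  · obtain ⟨r, hr, h4, h5, h6⟩ := k1 C hC h3
    refine se_conj hse h4 h5 h6 ?_
    rwa [show x.1 * r.1 = r.1 * x.1 from congrArg Subtype.val (hc x hx r hr), mul_inv_cancel_right]

theorem quad_pair (h5 : 5 ≤ p) (hρ : Function.Injective ρ) (hse : SE p ⊤ P H) (hz : z ∈ P)
    (h1 : z ≠ 1) (hq : (ρ z - 1) * (ρ z - 1) = 0) :
    ∃ t : G, t * z = z * t ∧ (∀ v, (ρ z - 1) (ρ t v + v) = 0) ∧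
      (∀ v, ρ t ((ρ z - 1) v) = -(ρ z - 1) v) ∧
      ∀ v, (ρ z - 1) v = 0 → ∃ w, ρ t v - v = (ρ z - 1) w := by
  obtain ⟨g, -, hg⟩ := SetLike.exists_of_lt hse.lt
  obtain ⟨k1, k2⟩ := se_pair hse hz h1 hg rfl
  generalize hK : closure {z, g * z * g⁻¹} = K at k1 k2
  let z' : K := ⟨z, hK ▸ subset_closure (by simp)⟩
  let w' : K := ⟨g * z * g⁻¹, hK ▸ subset_closure (by simp)⟩
  have hab : closure {z', w'} = ⊤ := by
    apply map_injective K.subtype_injective
    rw [MonoidHom.map_closure, ← MonoidHom.range_eq_map, range_subtype, Set.image_pair]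
    exact hK
  let σ := ρ.comp K.subtype
  have hσ : Function.Injective σ := hρ.comp K.subtype_injective
  have hA : (σ z' - 1) * (σ z' - 1) = 0 := hq
  have hB : (σ w' - 1) * (σ w' - 1) = 0 := by
    have e : σ w' - 1 = ρ g * (ρ z - 1) * ρ g⁻¹ := by
      rw [mul_sub, sub_mul, mul_one, ← map_mul, ← map_mul, ← map_mul, mul_inv_cancel, map_one]; rfl
    rw [e, show ∀ a x b : Module.End (ZMod p) V, a * x * b * (a * x * b) = a * (x * (b * a) * x) * b
      from fun _ _ _ => by noncomm_ring, ← map_mul, inv_mul_cancel, map_one, mul_one, hq, mul_zero,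
      zero_mul]
  obtain ⟨Λ, π, q1, q2, q3, q4⟩ := exists_pi σ hab hA hB rfl
  have hcA := commute_T_left (B := σ w' - 1) hA
  have hcB := commute_T_right (A := σ z' - 1) hB
  generalize hc : (σ z' - 1) * (σ w' - 1) + (σ w' - 1) * (σ z' - 1) = c at q3 q4 hcA hcB
  have hcK : ∀ x, Commute c (σ x) := fun x => by
    have hx : x ∈ closure {z', w'} := hab ▸ mem_top x
    induction hx using closure_induction with
    | mem x hx =>
      rcases hx with rfl | rfl
      · simpa using hcA.add_right (Commute.one_right c)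
      · simpa using hcB.add_right (Commute.one_right c)
    | one => simp
    | mul x y _ _ hx hy => rw [map_mul]; exact hx.mul_right hy
    | inv x _ hx => exact hx.units_inv_right (u := σ.toHomUnits x)
  obtain ⟨r1, ⟨t, r2⟩, r3⟩ := single_block h5 hab (fun e => h1 (congrArg Subtype.val e)) π
    (fun l => l.1) q1 (fun x hx => by
      obtain ⟨n, hn⟩ := exists_pow_eq_one_of_isNilpotent (K := ZMod p) p (q2 x hx)
      exact ⟨n, hσ (by rw [map_pow, hn, map_one])⟩) k1 k2
  have : Module.Finite (ZMod p) V := Module.Finite.of_finite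
  let D := Module.finrank (ZMod p) V
  let M : Subgroup K := subgroupOfFinite {x | ∀ v, (c ^ D) v = 0 → σ x v = v} (by simp)
    fun a b ha hb v hv => by rw [map_mul, Module.End.mul_apply, hb v hv, ha v hv]
  have hM : ∀ x v m, (c ^ m) v = 0 → σ x v = v := fun x v m hv => by
    refine (r3 M ⟨fun a ha b v hv => ?_⟩ fun x => ?_).ge (mem_top x) v
      (Module.End.ker_pow_le_ker_pow_finrank c m hv)
    · rw [map_mul, map_mul, Module.End.mul_apply, Module.End.mul_apply, ha, ← Module.End.mul_apply,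
        ← map_mul, mul_inv_cancel, map_one, Module.End.one_apply]
      rw [← Module.End.mul_apply, ((hcK _).pow_left D).eq, Module.End.mul_apply, hv, map_zero]
    · obtain ⟨e, e1, e2⟩ := q4 x
      refine ⟨2 * D, fun v hv => ?_⟩
      rcases subsingleton_or_nontrivial V with hs | hs
      · exact Subsingleton.elim _ _
      have : CharP (Module.End (ZMod p) V) p :=
        charP_of_injective_algebraMap (algebraMap (ZMod p) _).injective p
      obtain ⟨j, hj⟩ := Nat.exists_eq_add_of_le' (Nat.lt_pow_self hp.out.one_lt (n := 2 * D)).le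
      have e3 := sub_pow_char_pow_of_commute p (2 * D) (Commute.one_right (σ x))
      rw [one_pow, ← map_pow] at e3
      rw [← sub_eq_zero]
      change (σ (x ^ p ^ (2 * D)) - 1) v = 0
      rw [← e3, hj, pow_add, pow_mul, e2, e1, (Commute.mul_pow e1.symm D),
        Module.End.mul_apply, Module.End.mul_apply, hv, map_zero, map_zero]
  have t2 : σ t * σ t = 1 := by
    rw [← map_mul, r1 (t * t) fun i => by rw [map_mul, r2]; simp, map_one]
  have tz : t * z' = z' * t := mul_inv_eq_one.1 (r1 _ fun i => by simp [r2])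
  have tA : Commute (σ t) (σ z' - 1) :=
    (Commute.map tz σ).sub_right (Commute.one_right _)
  have h2 : (2 : ZMod p) ≠ 0 := fun e => by
    have := Nat.le_of_dvd two_pos ((ZMod.natCast_eq_zero_iff 2 p).1 e); omega
  have t3 : ∀ v, (σ z' - 1) (σ t v + v) = 0 := fun v => by
    obtain ⟨j, hj⟩ := q3 t r2
    have e1 : Commute (σ t + 1) (c ^ 2) :=
      (((hcK t).add_right (Commute.one_right c)).pow_left 2).symm
    have e2 : ∀ j, (σ t + 1) ^ (j + 1) = (2 : ZMod p) ^ j • (σ t + 1) := fun j => by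
      induction j with
      | zero => simp
      | succ j ih =>
        rw [pow_succ, ih, smul_mul_assoc, pow_succ, mul_smul, two_smul]
        congr 1
        rw [add_mul, mul_add, t2]; noncomm_ring
    have e3 : ((σ t + 1) * c ^ 2) ^ (j + 1) = 0 := by rw [pow_succ, hj, zero_mul]
    rw [e1.mul_pow, e2, smul_mul_assoc, smul_eq_zero_iff_right (pow_ne_zero _ h2),
      (e1.pow_right _).eq, ← pow_mul] at e3
    exact sub_eq_zero.2 (hM z' _ (2 * (j + 1)) (LinearMap.congr_fun e3 v))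
  have t4 : ∀ v, σ t ((σ z' - 1) v) = -(σ z' - 1) v := fun v => by
    rw [← Module.End.mul_apply, tA.eq, Module.End.mul_apply, eq_neg_iff_add_eq_zero, ← map_add, t3]
  refine ⟨t, congrArg Subtype.val tz, t3, t4, fun v hv => ?_⟩
  have i1 : ∀ u, σ t u = -u → c u = 0 → u = 0 := fun u h3 h4 => by
    rw [hM t u 1 (by rwa [pow_one]), eq_neg_iff_add_eq_zero, ← two_smul (ZMod p)] at h3
    exact (smul_eq_zero_iff_right h2).1 h3
  have i2 : ∀ u ∈ LinearMap.ker (σ t + 1), c u ∈ LinearMap.ker (σ t + 1) := fun u hu => by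
    rw [LinearMap.mem_ker, ← Module.End.mul_apply,
      ← ((hcK t).add_right (Commute.one_right c)).eq, Module.End.mul_apply, hu, map_zero]
  obtain ⟨⟨u, hu⟩, e⟩ := Finite.surjective_of_injective (f := c.restrict i2)
    ((injective_iff_map_eq_zero _).2 fun u hu => Subtype.ext (i1 _
      (eq_neg_iff_add_eq_zero.2 u.2) (congrArg Subtype.val hu))) ⟨σ t v - v, by
        change ((σ t + 1) * (σ t - 1)) v = 0
        rw [add_mul, mul_sub, t2]; simp⟩
  have e1 : c u = σ t v - v := congrArg Subtype.val e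
  have e2 : (σ z' - 1) u = 0 := i1 _ (t4 u) (by
    rw [← Module.End.mul_apply, hcA.eq, Module.End.mul_apply, e1, map_sub, ← Module.End.mul_apply,
      ← tA.eq, Module.End.mul_apply, show (σ z' - 1) v = 0 from hv, map_zero, sub_zero])
  refine ⟨(σ w' - 1) u, e1.symm.trans ?_⟩
  rw [← hc, LinearMap.add_apply, Module.End.mul_apply, Module.End.mul_apply, e2, map_zero, add_zero]
  rfl

end Cfsg.Lib.MCN
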