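import Cfsg.Agent.MCN.T1
import Cfsg.Agent.MCN.QP

/-! The quadratic case. -/

set_option autoImplicit false

namespace Cfsg.Lib.MCN

open Cfsg Subgroup Cfsg.Lib.Fus Cfsg.Lib.Fus.Ess Cfsg.Lib.Grz

section Lin

variable {k V : Type*} [Field k] [AddCommGroup V] [Module k V] {F : ℕ → Submodule k V}
  {N Z Y Y' : Module.End k V} {m d : ℕ}

theorem rs_binom (hF : Antitone F) (hN : Rs F N 1) (hZ : Rs F Z m) (h2 : 2 ≤ m) (c : Commute N Z) (j : ℕ) :
    Rs F ((N + Z) ^ (j + 1) - N ^ (j + 1) - ((j + 1 : ℕ) : k) • (N ^ j * Z)) (j + 1 + m) := by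
  induction j with
  | zero => simpa using rs_zero
  | succ j ih =>
    have := (((hN.add (hZ.mono hF (by omega))).mul ih).mono hF (show j + 1 + 1 + m ≤ _ by omega)).add
      (((hZ.mul ((hN.pow j).mul hZ)).smul ((j + 1 : ℕ) : k)).mono hF (by omega))
    convert this using 1
    have e : Z * N ^ (j + 1) = N * (N ^ j * Z) := by rw [← mul_assoc, ← pow_succ', (c.symm.pow_right _).eq]
    rw [pow_succ' (N + Z) (j + 1), pow_succ' N (j + 1), Nat.cast_succ (j + 1), add_smul, one_smul, mul_sub, mul_sub,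
      add_mul N Z (N ^ (j + 1)), e, mul_smul_comm, add_mul N Z (N ^ j * Z), smul_add, pow_succ' N j, mul_assoc]
    abel

theorem conj_pow' (e : Y' * Y = 1) (e' : Y * Y' = 1) (j : ℕ) : Y * N ^ j * Y' = (Y * N * Y') ^ j := by
  induction j with
  | zero => simpa using e'
  | succ j ih =>
    rw [pow_succ, pow_succ, ← ih]
    calc _ = Y * N ^ j * (Y' * Y) * N * Y' := by rw [e]; noncomm_ring
      _ = _ := by noncomm_ring

theorem rs_conj (h : Flag F d) (hN : Ex F N 1) (hZ : Rs F Z m) (h2 : 2 ≤ m) (c : Commute N Z)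
    (e : Y' * Y = 1) (e' : Y * Y' = 1) (eN : Y * N * Y' = N + Z) (t : ℕ) : ∀ r, d ≤ r + t →
    ∀ X, X * N = N * X → Rs F X (r + 1) → Rs F (Y * X * Y' - X) (r + m) := by
  induction t with
  | zero => exact fun r hr X _ hX => by rw [h.eq_zero hX (by omega)]; simpa using rs_zero
  | succ t ih =>
    intro r hr X hc hX
    obtain ⟨a, ha⟩ := h.exists_lead hN hc hX
    have h1 := ih (r + 1) (by omega) _ (by
      rw [sub_mul, mul_sub, hc, smul_mul_assoc, mul_smul_comm, ← pow_succ, ← pow_succ']) ha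
    have h3 := (hN.rs.pow r).mul hZ
    rw [mul_one] at h3
    have := (h1.mono h.anti (show r + m ≤ _ by omega)).add
      ((((rs_binom h.anti hN.rs hZ h2 c r).mono h.anti (by omega)).add (h3.smul ((r + 1 : ℕ) : k))).smul a)
    convert this using 1
    rw [sub_add_cancel, ← eN, ← conj_pow' e e', mul_sub, sub_mul, mul_smul_comm, smul_mul_assoc, smul_sub]
    abel

end Lin

variable {p : ℕ} [hp : Fact p.Prime] {V : Type*} [AddCommGroup V] [Module (ZMod p) V]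
  {G : Type*} [Group G] {ρ : G →* Module.End (ZMod p) V} {P H : Subgroup G}
  {F : ℕ → Submodule (ZMod p) V} {d m : ℕ} {s z y : G}

theorem LD.big (h : LD p ρ P F d s z m) (hy : y ∈ P) (e : y * s * y⁻¹ = z * s) : d + 1 ≤ 2 * m := by
  have hF := h.flag.anti
  have m2 := h.two_le
  have c0 : Commute (ρ s) (ρ z) := Commute.map (h.z_comm s h.s_mem).symm ρ
  have c1 : Commute (ρ s - 1) (ρ z - 1) := (c0.sub_right (Commute.one_right _)).sub_left (Commute.one_left _)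
  have c2 : Commute (ρ s - 1) ((ρ z - 1) * ρ s) := c1.mul_right ((Commute.refl _).sub_left (Commute.one_left _))
  have e1 : ρ y⁻¹ * ρ y = 1 := by rw [← map_mul, inv_mul_cancel, map_one]
  have e2 : ρ y * ρ y⁻¹ = 1 := by rw [← map_mul, mul_inv_cancel, map_one]
  have eN : ρ y * (ρ s - 1) * ρ y⁻¹ = ρ s - 1 + (ρ z - 1) * ρ s := by
    rw [mul_sub, sub_mul, mul_one, e2, ← map_mul, ← map_mul, e, map_mul]; noncomm_ring
  have eZ : ρ y * (ρ z - 1) * ρ y⁻¹ = ρ z - 1 := by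
    rw [mul_sub, sub_mul, mul_one, e2, ← map_mul, ← map_mul, ← h.z_comm y hy, mul_inv_cancel_right]
  have hZ : Ex F ((ρ z - 1) * ρ s) m := by
    have := h.z_ex.add_rs h.flag (h.z_ex.rs.mul h.s_ex.rs) one_ne_zero
    convert this using 1
    rw [one_smul]; noncomm_ring
  obtain ⟨c, hc⟩ := h.flag.exists_lead h.s_ex c1.symm.eq h.z_ex.rs
  have cne : c ≠ 0 := by
    rintro rfl
    obtain ⟨v, hv, hv'⟩ := h.z_ex.exists_not_mem h.flag (a := 0) (by have := h.lt; omega)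
    exact hv' (by simpa using hc 0 v hv)
  have h1 := rs_conj h.flag h.s_ex hZ.rs m2 c2 e1 e2 eN d m (by omega) _ (by
    rw [sub_mul, mul_sub (ρ s - 1) (ρ z - 1), c1.eq, smul_mul_assoc, mul_smul_comm, ← pow_succ, ← pow_succ']) hc
  obtain ⟨j, rfl⟩ : ∃ j, m = j + 1 := ⟨m - 1, by omega⟩
  have h3 := (h.s_ex.pow j).mul hZ
  have jne : ((j + 1 : ℕ) : ZMod p) ≠ 0 := fun e => by
    have := Nat.le_of_dvd (by omega) ((ZMod.natCast_eq_zero_iff _ p).1 e)
    have := h.lt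
    have := h.d_le
    omega
  have h4 := h3.add_rs h.flag (((((rs_binom hF h.s_ex.rs hZ.rs m2 c2 j).smul c).add h1)).mono hF (by omega))
    (mul_ne_zero cne jne)
  rw [← eN, ← conj_pow' e1 e2, mul_sub (ρ y) (ρ z - 1), sub_mul (ρ y * _), eZ, mul_smul_comm, smul_mul_assoc,
    smul_sub, smul_sub, smul_smul] at h4
  by_contra lt
  obtain ⟨v, -, hv⟩ := h4.exists_not_mem h.flag (a := 0) (by omega)
  refine hv ?_
  simp only [LinearMap.add_apply, LinearMap.sub_apply]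
  convert Submodule.zero_mem _ using 1
  abel

theorem cm_raise {t : G} {A B : Submodule (ZMod p) V} {ε : ZMod p} (h1 : ∀ v ∈ A, ρ t⁻¹ v ∈ A)
    (h2 : ∀ v ∈ A, ρ s v ∈ A) (h3 : ∀ v ∈ B, ρ s v ∈ B) (h4 : ∀ v ∈ B, ρ s⁻¹ v ∈ B)
    (e : ∀ v ∈ A, ρ t v - ε • v ∈ B) {v : V} (hv : v ∈ A) : (ρ (s⁻¹ * t * s * t⁻¹) - 1) v ∈ B := by
  have := h4 _ (sub_mem (e _ (h2 _ (h1 v hv))) (h3 _ (e _ (h1 v hv))))
  convert this using 1
  simp only [LinearMap.sub_apply, Module.End.one_apply, map_sub, map_mul, Module.End.mul_apply, rho_inv, rho_inv',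
    map_smul]
  abel

variable [Finite V] [Finite G]

theorem LD.caseQ (h : LD p ρ P F d s z m) (hq : d + 1 ≤ 2 * m) (h4 : 4 ≤ d) (hse : SE p ⊤ P H)
    (hB : ∀ x ∈ P, ∀ a b, a + 3 ≤ d → b + 3 ≤ d → (∀ v ∈ F a, (ρ x - 1) v ∈ F (a + 2)) →
      ∀ v ∈ F b, (ρ x - 1) v ∈ F (b + 2)) : False := by
  have hF := h.flag.anti
  have m2 := h.two_le
  have md := h.lt
  obtain ⟨t, tz, t1, t2, t3⟩ := quad_pair h.five h.inj hse h.z_mem h.z_ne
    (h.flag.eq_zero (h.z_ex.rs.mul h.z_ex.rs) (by omega))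
  obtain ⟨e, rfl⟩ : ∃ e, d = e + 1 + m := ⟨d - m - 1, by omega⟩
  have ke : ∀ v, v ∈ F (e + 1) ↔ (ρ z - 1) v = 0 := fun v => by
    rw [← LinearMap.mem_ker, h.z_ex.ker_eq h.flag md.le, Nat.add_sub_cancel]
  have re := h.z_ex.range_eq h.flag
  have i1 : ∀ g ∈ centralizer {z}, ∀ v ∈ F (e + 1), ρ g v ∈ F (e + 1) := fun g hg v hv => by
    rw [ke, ← rho_comm ρ (mem_centralizer_singleton_iff.1 hg), (ke v).1 hv, map_zero]
  have i2 : ∀ g ∈ centralizer {z}, ∀ v ∈ F m, ρ g v ∈ F m := fun g hg v =>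
    h.cent_m (mem_centralizer_singleton_iff.1 hg)
  have hP : P ≤ centralizer {z} := fun x hx => mem_centralizer_singleton_iff.2 (h.z_comm x hx).symm
  have ht : t ∈ centralizer {z} := mem_centralizer_singleton_iff.2 tz
  have hs := hP h.s_mem
  have a1 : ∀ v, ρ t v - (-1 : ZMod p) • v ∈ F (e + 1) := fun v => (ke _).2 (by simpa using t1 v)
  have a2 : ∀ v ∈ F (e + 1), ρ t v - (1 : ZMod p) • v ∈ F m := fun v hv => by
    obtain ⟨w, hw⟩ := t3 v ((ke v).1 hv)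
    rw [one_smul, hw, ← re]
    exact ⟨w, rfl⟩
  have u1 : ∀ v, (ρ (s⁻¹ * t * s * t⁻¹) - 1) v ∈ F (e + 1) := fun v => cm_raise (A := ⊤) (fun _ _ => trivial)
    (fun _ _ => trivial) (i1 s hs) (i1 _ (inv_mem hs)) (fun v _ => a1 v) trivial
  have u2 : ∀ v ∈ F (e + 1), (ρ (s⁻¹ * t * s * t⁻¹) - 1) v ∈ F m := fun v hv =>
    cm_raise (i1 _ (inv_mem ht)) (i1 s hs) (i2 s hs) (i2 _ (inv_mem hs)) a2 hv
  have u3 : ∀ v ∈ F m, (ρ (s⁻¹ * t * s * t⁻¹) - 1) v ∈ (⊥ : Submodule (ZMod p) V) := fun v hv =>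
    cm_raise (ε := -1) (i2 _ (inv_mem ht)) (i2 s hs) (by simp) (by simp) (fun v hv => by
      obtain ⟨w, rfl⟩ := re.ge hv
      rw [t2]; simp) hv
  obtain ⟨M, -, h2, h3, h5⟩ := exists_chain_sub (p := p) h.inj (centralizer {z})
    (fun j => match j with | 0 => ⊤ | 1 => F (e + 1) | 2 => F m | _ + 3 => ⊥) 3 rfl rfl fun g hg j =>
      match j with
      | 0 => fun _ _ => trivial
      | 1 => i1 g hg
      | 2 => i2 g hg
      | _ + 3 => fun v hv => by rw [(Submodule.mem_bot _).1 hv, map_zero]; exact zero_mem _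
  have hu : s⁻¹ * t * s * t⁻¹ ∈ P := h.le_of_normalized h2 (fun g hg => h3 g (hP hg))
    (h5 _ (mul_mem (mul_mem (mul_mem (inv_mem hs) ht) hs) (inv_mem ht)) fun j =>
      match j with
      | 0 => fun v _ => u1 v
      | 1 => u2
      | 2 => u3
      | _ + 3 => fun v hv => by rw [(Submodule.mem_bot _).1 hv, map_zero]; exact zero_mem _)
  have u4 : ∀ v ∈ F e, (ρ (s⁻¹ * t * s * t⁻¹) - 1) v ∈ F (e + 2) := by
    rcases Nat.eq_zero_or_pos e with rfl | he
    · exact hB _ hu 1 0 (by omega) (by omega) fun v hv => hF (by omega) (u2 v hv)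
    · exact hB _ hu 0 e (by omega) (by omega) fun v _ => hF (by omega) (u1 v)
  refine h.flag.ne (e + 1) (by omega) fun x hx => ?_
  rw [← h.s_ex e] at hx
  obtain ⟨v, hv, rfl⟩ := hx
  have b1 : ρ t v ∈ F e := by simpa using sub_mem (hF (Nat.le_succ e) (a1 v)) hv
  have b2 := (h.rs s h.s_mem).of_sub_one hF _ _ (u4 _ b1)
  have b3 := hF (show e + 2 ≤ m by omega) (a2 _ (h.s_ex.rs e v hv))
  have b4 := add_mem (sub_mem b2 b3) (h.s_ex.rs _ _ (a1 v))
  have two : (2 : ZMod p) ≠ 0 := fun e => by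
    have := Nat.le_of_dvd two_pos ((ZMod.natCast_eq_zero_iff 2 p).1 (by exact_mod_cast e))
    have := h.five
    omega
  rw [← Submodule.smul_mem_iff _ two]
  convert b4 using 1
  simp only [LinearMap.sub_apply, Module.End.one_apply, map_sub, map_mul, Module.End.mul_apply, rho_inv, rho_inv',
    one_smul, neg_smul, two_smul, map_neg]
  abel

end Cfsg.Lib.MCN
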