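import Cfsg.Agent.MCN.Lin
import Mathlib.GroupTheory.FreeGroup.Basic

/-! A quadratic pair gives homomorphisms to `SL₂` over the roots of the minimal polynomial. -/

set_option autoImplicit false

namespace Cfsg.Lib.MCN

open Subgroup Polynomial Cfsg.Lib.Trans.Quad

section QA

variable {k L R : Type*} [Field k] [Field L] [Algebra k L] [IsAlgClosed L] [Ring R]
  [Algebra k[X] R]

theorem qa_rad {μ q : k[X]} (hμ : μ.Monic) (h : ∀ l : L, aeval l μ = 0 → aeval l q = 0) :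
    ∃ n, μ ∣ q ^ n := by
  have hs := (IsAlgClosed.splits (μ.map (algebraMap k L))).eq_prod_roots_of_monic (hμ.map _)
  refine ⟨(μ.map (algebraMap k L)).roots.card, (map_dvd_map' (algebraMap k L)).1 ?_⟩
  rw [Polynomial.map_pow, ← Multiset.prod_replicate, ← Multiset.map_const']
  conv_lhs => rw [hs]
  refine Multiset.prod_dvd_prod_of_dvd _ _ fun a ha => dvd_iff_isRoot.2 ?_
  have := isRoot_of_mem_roots ha
  rw [IsRoot, eval_map_algebraMap] at this ⊢
  exact h a this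

theorem qa_nil {q₁ q₂ q₃ q₄ q₅ : k[X]} (h₁ : IsNilpotent (algebraMap k[X] R q₁))
    (h₂ : IsNilpotent (algebraMap k[X] R q₂)) (h₃ : IsNilpotent (algebraMap k[X] R q₃))
    (h₄ : IsNilpotent (algebraMap k[X] R q₄)) (h₅ : IsNilpotent (algebraMap k[X] R q₅))
    (y₁ y₂ y₃ y₄ y₅ : R) : IsNilpotent (q₁ • y₁ + q₂ • y₂ + q₃ • y₃ + q₄ • y₄ + q₅ • y₅) := by
  let J := (RingHom.ker (algebraMap k[X] R)).radical
  have hJ : ∀ q, q ∈ J ↔ IsNilpotent (algebraMap k[X] R q) := fun q =>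
    exists_congr fun n => by rw [RingHom.mem_ker, map_pow]
  obtain ⟨g, hg : J = Ideal.span {g}⟩ := (IsPrincipalIdealRing.principal J).principal
  have dv : ∀ q, IsNilpotent (algebraMap k[X] R q) → ∃ r, q = g * r := fun q hq =>
    Ideal.mem_span_singleton.1 (show q ∈ Ideal.span {g} from hg ▸ (hJ q).2 hq)
  obtain ⟨r₁, rfl⟩ := dv _ h₁
  obtain ⟨r₂, rfl⟩ := dv _ h₂
  obtain ⟨r₃, rfl⟩ := dv _ h₃
  obtain ⟨r₄, rfl⟩ := dv _ h₄
  obtain ⟨r₅, rfl⟩ := dv _ h₅
  simp only [mul_smul, ← smul_add]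
  rw [Algebra.smul_def]
  exact (Algebra.commute_algebraMap_left _ _).isNilpotent_mul_right
    ((hJ g).1 (hg ▸ Ideal.mem_span_singleton_self g))

theorem qa_rel {C : Type*} [CommRing C] [Algebra C R] {A B : R} {t : C} (hA : A * A = 0)
    (hB : B * B = 0) (ht : A * B + B * A = algebraMap C R t) {a b c d : C}
    (h : a • A + b • B + c • (A * B) + d • (B * A) = 0) :
    algebraMap C R (t ^ 3 * a) = 0 ∧ algebraMap C R (t ^ 3 * b) = 0 ∧
      algebraMap C R (t ^ 3 * c) = 0 ∧ algebraMap C R (t ^ 3 * d) = 0 := by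
  have h0 : B * A = t • (1 : R) - A * B := by
    rw [← Algebra.algebraMap_eq_smul_one, ← ht, add_sub_cancel_left]
  have h1 : A * (B * A) = t • A := by
    rw [h0, mul_sub, ← mul_assoc, hA, zero_mul, sub_zero, mul_smul_comm, mul_one]
  have h2 : B * (A * B) = t • B := by
    rw [← mul_assoc, h0, sub_mul, mul_assoc, hB, mul_zero, sub_zero, smul_mul_assoc, one_mul]
  have h3 : ∀ x : R, A * (A * x) = 0 := fun x => by rw [← mul_assoc, hA, zero_mul]
  have h4 : ∀ x : R, B * (B * x) = 0 := fun x => by rw [← mul_assoc, hB, zero_mul]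
  have fA : ∀ e : C, e • A = 0 → algebraMap C R (t * e) = 0 := fun e he => by
    rw [mul_comm, map_mul, ← ht, ← Algebra.smul_def, smul_add, ← smul_mul_assoc, ← mul_smul_comm, he]
    simp
  have fB : ∀ e : C, e • B = 0 → algebraMap C R (t * e) = 0 := fun e he => by
    rw [mul_comm, map_mul, ← ht, ← Algebra.smul_def, smul_add, ← mul_smul_comm, ← smul_mul_assoc, he]
    simp
  have e1 := congrArg (A * ·) h
  have e2 := congrArg (B * ·) h
  simp only [mul_add, mul_smul_comm, hA, hB, h1, h2, h3, h4, smul_zero, mul_zero, zero_add,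
    add_zero] at e1 e2
  have e3 := congrArg (· * A) e1
  have e4 := congrArg (· * B) e2
  simp only [add_mul, smul_mul_assoc, mul_assoc, hA, hB, h1, h2, smul_zero, zero_mul, add_zero,
    smul_smul] at e3 e4
  have e5 : (t * d * t) • A = 0 := by
    have := congrArg (t • ·) e1
    simp only [smul_add, smul_smul, smul_zero] at this
    rwa [mul_comm t b, ← smul_mul_assoc, e3, zero_mul, zero_add, ← mul_assoc] at this
  have e6 : (t * c * t) • B = 0 := by
    have := congrArg (t • ·) e2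
    simp only [smul_add, smul_smul, smul_zero] at this
    rwa [mul_comm t a, ← smul_mul_assoc, e4, zero_mul, zero_add, ← mul_assoc] at this
  refine ⟨?_, ?_, ?_, ?_⟩
  · rw [show t ^ 3 * a = t * (t * (a * t)) by ring, map_mul, fB _ e4, mul_zero]
  · rw [show t ^ 3 * b = t * (t * (b * t)) by ring, map_mul, fA _ e3, mul_zero]
  · rw [show t ^ 3 * c = t * (t * c * t) by ring, fB _ e6]
  · rw [show t ^ 3 * d = t * (t * d * t) by ring, fA _ e5]

theorem qa_main {K : Type*} [Group K] (ρ : K →* R) {z w : K} (hK : closure {z, w} = ⊤)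
    (hz : (ρ z - 1) * (ρ z - 1) = 0) (hw : (ρ w - 1) * (ρ w - 1) = 0)
    (hc : (ρ z - 1) * (ρ w - 1) + (ρ w - 1) * (ρ z - 1) = algebraMap k[X] R X) {μ : k[X]}
    (hμ : μ.Monic) (hker : ∀ q, algebraMap k[X] R q = 0 ↔ μ ∣ q) :
    ∃ (Λ : Set L) (π : Λ → (K →* Matrix.SpecialLinearGroup (Fin 2) L)),
      (∀ l : Λ, l.1 ≠ 0 ∧ (π l z : Matrix (Fin 2) (Fin 2) L) = !![1, l.1; 0, 1] ∧
        (π l w : Matrix (Fin 2) (Fin 2) L) = !![1, 0; 1, 1]) ∧
      (∀ x, (∀ l, π l x = 1) → IsNilpotent (ρ x - 1)) ∧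
      (∀ x, (∀ l, π l x = -1) → IsNilpotent ((ρ x + 1) * algebraMap k[X] R X ^ 2)) ∧
      ∀ x, ∃ e, (ρ x - 1) ^ 2 = algebraMap k[X] R X * e := by
  let f : FreeGroup Bool →* K := FreeGroup.lift fun b => cond b z w
  let u : Matrix.SpecialLinearGroup (Fin 2) k[X] := ⟨!![1, X; 0, 1], by simp [Matrix.det_fin_two]⟩
  let v : Matrix.SpecialLinearGroup (Fin 2) k[X] := ⟨!![1, 0; 1, 1], by simp [Matrix.det_fin_two]⟩
  let ψ : FreeGroup Bool →* Matrix.SpecialLinearGroup (Fin 2) k[X] :=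
    FreeGroup.lift fun b => cond b u v
  have fz : f (.of true) = z := FreeGroup.lift_apply_of
  have fw : f (.of false) = w := FreeGroup.lift_apply_of
  have ψz : ψ (.of true) = u := FreeGroup.lift_apply_of
  have ψw : ψ (.of false) = v := FreeGroup.lift_apply_of
  have hf : Function.Surjective f := MonoidHom.range_eq_top.1 (top_le_iff.1 (hK ▸
    (closure_le _).2 (by rintro _ (rfl | rfl); exacts [⟨_, fz⟩, ⟨_, fw⟩])))
  have gen : closure {FreeGroup.of true, FreeGroup.of false} = ⊤ := by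
    rw [← FreeGroup.closure_range_of]
    congr 1
    ext x
    simp [or_comm]
  set A := ρ z - 1 with hA
  set B := ρ w - 1 with hB
  have word : ∀ y, ∃ c₁ c₂ c₃ c₄ : k[X],
      ρ (f y) = 1 + (c₁ • A + c₂ • B + c₃ • (A * B) + c₄ • (B * A)) ∧
      (ψ y : Matrix (Fin 2) (Fin 2) k[X]) = !![1 + c₃ * X, c₁ * X; c₂, 1 + c₄ * X] := fun y => by
    obtain ⟨c₁, c₂, c₃, c₄, e⟩ := exists_word (C := k[X])
      ((ρ.comp f).prod (Matrix.SpecialLinearGroup.coeMonoidHom.comp ψ)) gen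
      (A, !![0, X; 0, 0]) (B, !![0, 0; 1, 0])
      (Prod.ext (by simp [fz, hA]) ((congrArg Subtype.val ψz).trans
        (Matrix.ext fun i j => by fin_cases i <;> fin_cases j <;> simp [u])))
      (Prod.ext (by simp [fw, hB]) ((congrArg Subtype.val ψw).trans
        (Matrix.ext fun i j => by fin_cases i <;> fin_cases j <;> simp [v])))
      X (Prod.ext hz (Matrix.ext fun i j => by fin_cases i <;> fin_cases j <;> simp))
      (Prod.ext hw (Matrix.ext fun i j => by fin_cases i <;> fin_cases j <;> simp))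
      (Prod.ext hc (Matrix.ext fun i j => by
        fin_cases i <;> fin_cases j <;> simp [Algebra.algebraMap_eq_smul_one])) y
    refine ⟨c₁, c₂, c₃, c₄, congrArg Prod.fst e, (congrArg Prod.snd e).trans ?_⟩
    exact Matrix.ext fun i j => by fin_cases i <;> fin_cases j <;> simp
  let Λ : Set L := {l | l ≠ 0 ∧ aeval l μ = 0}
  let φ : Λ → (FreeGroup Bool →* Matrix.SpecialLinearGroup (Fin 2) L) := fun l =>
    (Matrix.SpecialLinearGroup.map (aeval l.1 : k[X] →ₐ[k] L).toRingHom).comp ψ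
  have hφ : ∀ (l : Λ) y i j, φ l y i j = aeval l.1 (ψ y i j) := fun l y i j => rfl
  have hle : ∀ l, f.ker ≤ (φ l).ker := fun l y hy => by
    obtain ⟨c₁, c₂, c₃, c₄, e, e'⟩ := word y
    rw [MonoidHom.mem_ker.1 hy, map_one, left_eq_add] at e
    have k0 : ∀ q, algebraMap k[X] R (X ^ 3 * q) = 0 → aeval l.1 q = 0 := fun q hq => by
      have := aeval_eq_zero_of_dvd_aeval_eq_zero ((hker _).1 hq) l.2.2
      simpa [l.2.1] using this
    obtain ⟨q1, q2, q3, q4⟩ := qa_rel hz hw hc e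
    refine Subtype.ext (Matrix.ext fun i j => (hφ l y i j).trans ?_)
    change aeval l.1 ((ψ y : Matrix (Fin 2) (Fin 2) k[X]) i j) = _
    rw [e']
    fin_cases i <;> fin_cases j <;> simp [k0 _ q1, k0 _ q2, k0 _ q3, k0 _ q4]
  let π : Λ → (K →* Matrix.SpecialLinearGroup (Fin 2) L) := fun l =>
    f.liftOfSurjective hf ⟨φ l, hle l⟩
  have hπ : ∀ l y, π l (f y) = φ l y := fun l y =>
    MonoidHom.liftOfRightInverse_comp_apply f _ _ ⟨φ l, hle l⟩ y
  have nil : ∀ q r : k[X], (∀ l : Λ, aeval l.1 q = 0) → IsNilpotent (algebraMap k[X] R (X * q * r)) :=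
    fun q r hq => by
    obtain ⟨n, hn⟩ := qa_rad (L := L) (q := X * q * r) hμ fun l hl => by
      by_cases h0 : l = 0
      · simp [h0]
      · simp [hq ⟨l, h0, hl⟩]
    exact ⟨n, by rw [← map_pow, (hker _).2 hn]⟩
  have ent : ∀ (l : Λ) y {c₁ c₂ c₃ c₄ : k[X]}, (ψ y : Matrix (Fin 2) (Fin 2) k[X]) =
      !![1 + c₃ * X, c₁ * X; c₂, 1 + c₄ * X] → π l (f y) 0 0 = aeval l.1 (1 + c₃ * X) ∧
      π l (f y) 0 1 = aeval l.1 (c₁ * X) ∧ π l (f y) 1 0 = aeval l.1 c₂ ∧
      π l (f y) 1 1 = aeval l.1 (1 + c₄ * X) := fun l y _ _ _ _ e => by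
    simp only [hπ, hφ]
    exact ⟨congrArg _ (congrFun₂ e 0 0), congrArg _ (congrFun₂ e 0 1), congrArg _ (congrFun₂ e 1 0),
      congrArg _ (congrFun₂ e 1 1)⟩
  refine ⟨Λ, π, fun l => ⟨l.2.1, ?_, ?_⟩, fun x hx => ?_, fun x hx => ?_, fun x => ?_⟩
  · rw [← fz, hπ]
    refine Matrix.ext fun i j => (hφ l _ i j).trans ?_
    rw [ψz]
    fin_cases i <;> fin_cases j <;> simp [u]
  · rw [← fw, hπ]
    refine Matrix.ext fun i j => (hφ l _ i j).trans ?_
    rw [ψw]
    fin_cases i <;> fin_cases j <;> simp [v]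
  · obtain ⟨y, rfl⟩ := hf x
    obtain ⟨c₁, c₂, c₃, c₄, e, e'⟩ := word y
    have k1 : ∀ l : Λ, aeval l.1 c₁ = 0 ∧ aeval l.1 c₂ = 0 ∧ aeval l.1 c₃ = 0 ∧ aeval l.1 c₄ = 0 :=
      fun l => by
      obtain ⟨a1, a2, a3, a4⟩ := ent l y e'
      rw [hx l] at a1 a2 a3 a4
      simp [l.2.1] at a1 a2 a3 a4
      exact ⟨a2, a3.symm, a1, a4⟩
    refine IsNilpotent.of_pow (m := 2) ?_
    rw [e, add_sub_cancel_left, sq, sq_word A B X hz hw hc]
    simp only [smul_add, smul_smul, ← mul_assoc]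
    exact qa_nil (nil _ _ fun l => (k1 l).1) (nil _ _ fun l => (k1 l).1) (nil _ _ fun l => (k1 l).2.1)
      (nil _ _ fun l => (k1 l).2.2.1) (nil _ _ fun l => (k1 l).2.2.2) _ _ _ _ _
  · obtain ⟨y, rfl⟩ := hf x
    obtain ⟨c₁, c₂, c₃, c₄, e, e'⟩ := word y
    have k1 : ∀ l : Λ, aeval l.1 c₁ = 0 ∧ aeval l.1 c₂ = 0 ∧ aeval l.1 (2 + c₃ * X) = 0 ∧
        aeval l.1 (2 + c₄ * X) = 0 := fun l => by
      obtain ⟨a1, a2, a3, a4⟩ := ent l y e'
      rw [hx l] at a1 a2 a3 a4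
      simp [l.2.1] at a1 a2 a3 a4
      refine ⟨a2, a3.symm, ?_, ?_⟩
      · simp only [map_add, map_mul, aeval_X, map_ofNat]; linear_combination -a1
      · simp only [map_add, map_mul, aeval_X, map_ofNat]; linear_combination -a4
    have e2 : (ρ (f y) + 1) * algebraMap k[X] R X ^ 2 = (X * c₁ * X) • A + (X * c₂ * X) • B +
        (X * (2 + c₃ * X) * 1) • (A * B) + (X * (2 + c₄ * X) * 1) • (B * A) +
        (X * 0 * 0 : k[X]) • 0 := by
      have h0 : B * A = (X : k[X]) • (1 : R) - A * B := by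
        rw [← Algebra.algebraMap_eq_smul_one, ← hc, add_sub_cancel_left]
      rw [← map_pow, ← Algebra.commutes, ← Algebra.smul_def, e, h0]
      module
    rw [e2]
    exact qa_nil (nil _ _ fun l => (k1 l).1) (nil _ _ fun l => (k1 l).2.1)
      (nil _ _ fun l => (k1 l).2.2.1) (nil _ _ fun l => (k1 l).2.2.2)
      (nil _ _ fun l => map_zero _) _ _ _ _ _
  · obtain ⟨y, rfl⟩ := hf x
    obtain ⟨c₁, c₂, c₃, c₄, e, -⟩ := word y
    exact ⟨_, by rw [e, add_sub_cancel_left, sq, sq_word A B X hz hw hc, Algebra.smul_def]⟩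

end QA

variable {p : ℕ} [Fact p.Prime] {V : Type*} [AddCommGroup V] [Module (ZMod p) V] [Finite V]

theorem exists_pi {K : Type*} [Group K] (ρ : K →* Module.End (ZMod p) V) {z w : K}
    (hK : closure {z, w} = ⊤) (hz : (ρ z - 1) * (ρ z - 1) = 0) (hw : (ρ w - 1) * (ρ w - 1) = 0)
    {c : Module.End (ZMod p) V} (hc : c = (ρ z - 1) * (ρ w - 1) + (ρ w - 1) * (ρ z - 1)) :
    ∃ (Λ : Set (Kb p)) (π : Λ → (K →* SLb p)),
      (∀ l : Λ, l.1 ≠ 0 ∧ (π l z : Matrix (Fin 2) (Fin 2) (Kb p)) = !![1, l.1; 0, 1] ∧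
        (π l w : Matrix (Fin 2) (Fin 2) (Kb p)) = !![1, 0; 1, 1]) ∧
      (∀ x, (∀ l, π l x = 1) → IsNilpotent (ρ x - 1)) ∧
      (∀ x, (∀ l, π l x = -1) → IsNilpotent ((ρ x + 1) * c ^ 2)) ∧
      ∀ x, ∃ e, c * e = e * c ∧ (ρ x - 1) ^ 2 = c * e := by
  have ca : Commute c (ρ z) := by
    have := (commute_T_left (B := ρ w - 1) hz).add_right (Commute.one_right _)
    rwa [sub_add_cancel, ← hc] at this
  have cb : Commute c (ρ w) := by
    have := (commute_T_right (A := ρ z - 1) hw).add_right (Commute.one_right _)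
    rwa [sub_add_cancel, ← hc] at this
  have call : ∀ g : K, Commute c (ρ g) := fun g => by
    have hg : g ∈ closure ({z, w} : Set K) := hK ▸ mem_top g
    induction hg using closure_induction with
    | mem x hx => rcases hx with rfl | rfl <;> assumption
    | one => simp
    | mul x y _ _ hx hy => rw [map_mul]; exact hx.mul_right hy
    | inv x _ hx =>
      calc c * ρ x⁻¹ = ρ x⁻¹ * (ρ x * c) * ρ x⁻¹ := by
            rw [← mul_assoc, ← map_mul, inv_mul_cancel, map_one, one_mul]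
        _ = ρ x⁻¹ * c := by
            rw [← hx.eq, mul_assoc, mul_assoc, ← map_mul, mul_inv_cancel, map_one, mul_one]
  let S := Subalgebra.centralizer (ZMod p) ({c} : Set (Module.End (ZMod p) V))
  have mem : ∀ {x}, x ∈ S ↔ c * x = x * c := by simp [S, Subalgebra.mem_centralizer_iff]
  let ρ' : K →* S := ρ.codRestrict S fun g => mem.2 (call g).eq
  let c' : S := ⟨c, mem.2 rfl⟩
  have cc : ∀ y : S, Commute c' y := fun y => Subtype.ext (mem.1 y.2)
  let _ : Algebra (ZMod p)[X] S := (aeval c' : (ZMod p)[X] →ₐ[ZMod p] S).toRingHom.toAlgebra'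
    fun q y => by
      refine (Commute.symm ?_).eq
      induction q using Polynomial.induction_on' with
      | add q r hq hr => rw [map_add]; exact hq.add_right hr
      | monomial n a =>
        change Commute y (aeval c' (monomial n a))
        rw [aeval_monomial]
        exact (Algebra.commute_algebraMap_right a y).mul_right ((cc y).symm.pow_right n)
  have hX : algebraMap (ZMod p)[X] S X = c' := aeval_X c'
  have : Finite (Module.End (ZMod p) V) := Finite.of_injective _ DFunLike.coe_injective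
  have hi : IsIntegral (ZMod p) c' := Algebra.IsIntegral.isIntegral c'
  obtain ⟨Λ, π, h1, h2, h3, h4⟩ := qa_main (k := ZMod p) (L := Kb p) ρ' hK (Subtype.ext hz)
    (Subtype.ext hw) (hX ▸ Subtype.ext hc.symm) (minpoly.monic hi) fun q => (minpoly.dvd_iff).symm
  rw [hX] at h3 h4
  refine ⟨Λ, π, h1, fun x hx => (h2 x hx).map S.val, fun x hx => (h3 x hx).map S.val, fun x => ?_⟩
  obtain ⟨e, he⟩ := h4 x
  exact ⟨e, mem.1 e.2, congrArg Subtype.val he⟩

end Cfsg.Lib.MCN
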