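import Cfsg.Agent.MCN.Blk
import Cfsg.Agent.Fus.EssBridge
import Cfsg.Agent.Grz.MaxFive

/-! Essential maximal subgroups of a `p`-group of maximal class. -/

set_option autoImplicit false

namespace Cfsg.Lib.MCN

open Cfsg Cfsg.FusionSystem Subgroup Cfsg.Lib.Fus Cfsg.Lib.Fus.Ess Cfsg.Lib.Grz Cfsg.Lib.Solv
  Cfsg.Lib.Trans

universe u

theorem not_rad_of_mc {E : Type*} [Group E] [Finite E] {p m : ℕ} [Fact p.Prime]
    {A : Subgroup (MulAut E)} {t : MulAut E} (h : MC p m E) (hm : 2 ≤ m) : ¬ Rad p A t := fun hr => by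
  have i1 : AInv A (twoStep E 1) := fun a _ => twoStep_map 1 a
  have k : ∀ j, PTr p A t ⊤ (gam E (j + 1)) := fun j => by
    induction j with
    | zero =>
      exact (hr.step aInv_top i1 le_top (card_top (G := E) ▸ h.card_twoStep le_rfl)).trans hr.pg
        (hr.step i1 (AInv.of_char _) gam_le_twoStep (h.card_le_gam (h.twoStep_ne_top hm)))
        (AInv.of_char _)
    | succ j ih =>
      exact ih.trans hr.pg (hr.step (AInv.of_char _) (AInv.of_char _) (gam_anti (by omega))
        (h.card_gam_le (by omega))) (AInv.of_char _)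
  exact hr.not_ptr (h.gam_eq_bot le_rfl ▸ k m)

variable {Ω : Type u} [Group Ω] {S E : Subgroup Ω} [Finite S] {p n : ℕ} [hp : Fact p.Prime]
  {F : FusionSystem S}

theorem max_case (h5 : 5 ≤ p) (h : MC p n S) (hn : 2 ≤ n) (hF : F.IsSaturated p)
    (hE : F.IsEssential p E) (hi : (E.subgroupOf S).index = p)
    (h1 : E.subgroupOf S ≠ twoStep S 1) (h2 : E.subgroupOf S ≠ twoStep S (n - 1)) :
    n = 2 ∧ Nat.card E = p ^ 3 ∧ IsExtraspecial p E ∧ Monoid.exponent E = p := by
  have hES : E ≤ S := hE.1.1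
  have : Finite E := Finite.of_injective _ (inclusion_injective hES)
  have hc : Nat.card S = p * Nat.card (E.subgroupOf S) := by rw [← hi, index_mul_card]
  have hc' : Nat.card (E.subgroupOf S) = p ^ (n + 1) := Nat.eq_of_mul_eq_mul_left hp.out.pos (by
    rw [← hc, h.card, pow_succ'])
  have hg : gam S 1 ≤ E.subgroupOf S := top_lowerCentralSeries_one.le.trans
    (PG.commutator_le_of_index_eq_prime h.pg hi)
  obtain ⟨s, hs, hs'⟩ := SetLike.not_le_iff_exists.1 fun e : E.subgroupOf S ≤ gam S 1 => by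
    have := card_le_of_le e
    rw [hc', h.card_gam le_rfl, Nat.pow_le_pow_iff_right hp.out.one_lt] at this
    omega
  have e1 := sup_zpowers_eq_of_card_le (h.pg.to_subgroup _)
    (by rw [hc', h.card_gam le_rfl, pow_succ', Nat.add_sub_cancel]) hg hs hs'
  have hu := h.card_centralizer_le (t := s) hn fun i hi1 hi2 e => by
    have := h.eq_of_le hc.le (e1 ▸ sup_le gam_le_twoStep (zpowers_le_of_mem e))
      (h.twoStep_ne_top hi2)
    rcases hi2.eq_or_lt with rfl | hi2
    · exact h2 this.symm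
    · exact h1 (this.symm.trans (blackburn (by omega) h hi1 hi2))
  obtain ⟨m, rfl⟩ := Nat.exists_eq_add_of_le' hn
  have hE' : Nat.card E = p ^ (m + 1 + 2) := (Nat.card_congr (subgroupOfEquivOfLe hES).toEquiv).symm.trans hc'
  have hm : MC p (m + 1) E := Unif.mc (s := ⟨s, hs⟩) ⟨hE', le_trans (Nat.card_le_card_of_injective
    (fun x => ⟨inclusion hES x, mem_centralizer_singleton_iff.2
      (congrArg (inclusion hES) (mem_centralizer_singleton_iff.1 x.2))⟩)
    fun x y e => Subtype.ext (inclusion_injective hES (congrArg Subtype.val e))) hu⟩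
  obtain ⟨t, ht⟩ := exists_rad_of_essential h.pg hF hE
  obtain rfl : m = 0 := by_contra fun e => not_rad_of_mc hm (by omega) ht
  have hn : ¬ ∀ x y : E, x * y = y * x := fun e =>
    MaxClass.not_isMulCommutative hm.ne le_rfl ⟨⟨e⟩⟩
  refine ⟨rfl, hE', isExtraspecial_of_card_cube hE' hn, ?_⟩
  rcases ht.card_cube hE' with ⟨h3, -⟩ | ⟨h3, -⟩
  · refine ((Nat.dvd_prime hp.out).1 (Monoid.exponent_dvd_of_forall_pow_eq_one h3)).resolve_left
      fun e => hn fun x y => ?_
    have := Monoid.exp_eq_one_iff.1 e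
    exact Subsingleton.elim _ _
  · omega

end Cfsg.Lib.MCN
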