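import Cfsg.Agent.MCN.Defs

/-! Blackburn's theorem on the two-step centralizers of a `p`-group of maximal class. -/

set_option autoImplicit false

namespace Cfsg.Lib.MCN

open Subgroup Cfsg.Lib.Fus Cfsg.Lib.Fus.Ess Cfsg.Lib.Solv Cfsg.Lib.Trans
open scoped commutatorElement

universe u

namespace Blk

variable {G : Type*} [Group G]

theorem comm_mk {i j k : ℕ} {a b : G} (ha : a ∈ gam G i) (hb : b ∈ gam G j) (h : k ≤ i + j + 1) :
    (a : G ⧸ gam G k) * b = b * a :=
  commutatorElement_eq_one_iff_mul_comm.1 ((map_commutatorElement (QuotientGroup.mk' _) a b).symm.trans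
    ((QuotientGroup.eq_one_iff _).2 (comm_mem_gam ha hb h)))

/-- Commutation with an element is a derivation of the associated Lie ring. -/
theorem der (s : G) {i j k : ℕ} {a b : G} (ha : a ∈ gam G i) (hb : b ∈ gam G j) (h : k ≤ i + j + 3) :
    ((dl s ⁅a, b⁆ : G) : G ⧸ gam G k) = (⁅a, dl s b⁆ : G) * (⁅dl s a, b⁆ : G) := by
  have h1 := dl_mem s ha
  have h2 := dl_mem s hb
  have e : dl s ⁅a, b⁆ = dl s a * (⁅a, dl s b⁆ * (dl s b * ⁅a, b⁆ * (dl s b)⁻¹)) * (dl s a)⁻¹ *
      (⁅dl s a, dl s b⁆ * (dl s b * ⁅dl s a, b⁆ * (dl s b)⁻¹)) * ⁅a, b⁆⁻¹ := by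
    simp only [dl_eq, commutatorElement_def]
    group
  have k1 := comm_mk (k := k) h2 (comm_mem_gam ha hb le_rfl) (by omega)
  have k2 := comm_mk (k := k) h1 (mul_mem (gam_anti (by omega) (comm_mem_gam ha h2 le_rfl))
    (comm_mem_gam ha hb le_rfl)) (by omega)
  have k3 := (QuotientGroup.eq_one_iff _).2 (comm_mem_gam (k := k) h1 h2 (by omega))
  have k4 := comm_mk (k := k) h2 (comm_mem_gam h1 hb le_rfl) (by omega)
  have k5 := comm_mk (k := k) (comm_mem_gam ha hb le_rfl) (comm_mem_gam h1 hb le_rfl) (by omega)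
  rw [e]
  simp only [QuotientGroup.mk_mul, QuotientGroup.mk_inv] at k2 ⊢
  rw [k1, mul_inv_cancel_right, k2, mul_inv_cancel_right, k3, one_mul, k4, mul_inv_cancel_right,
    mul_assoc _ _ (_ : G ⧸ gam G k), mul_assoc, ← mul_assoc (_ : G ⧸ gam G k) _ _⁻¹, ← mul_assoc, k5,
    mul_assoc, mul_inv_cancel_right]

theorem dl_mul (s : G) {i : ℕ} {a b : G} (hb : b ∈ gam G i) (h : a * b ∈ gam G (i + 1)) :
    ((dl s a : G) : G ⧸ gam G (i + 2)) * (dl s b : G) = 1 := by
  have e : dl s (a * b) = dl s a * (a * dl s b * a⁻¹) := by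
    simp only [dl_eq, commutatorElement_def]
    group
  have k := (QuotientGroup.eq_one_iff _).2 (dl_mem s h)
  rw [e] at k
  simp only [QuotientGroup.mk_mul, QuotientGroup.mk_inv] at k
  rwa [comm_mk (i := 0) (mem_top a) (dl_mem s hb) (by omega), mul_inv_cancel_right] at k

theorem rec_mul (d : ℕ → G) (k : ℕ) (h0 : d 0 = 1)
    (h : ∀ j, j + 2 ≤ k → d j * d (j + 1) * (d (j + 1) * d (j + 2)) = 1) (j : ℕ) (hj : j ≤ k) :
    d j = d 1 ^ (-(-1) ^ j * j : ℤ) := by
  induction j using Nat.twoStepInduction with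
  | zero => simp [h0]
  | one => simp
  | more j h1 h2 =>
    rw [eq_inv_of_mul_eq_one_right ((mul_assoc _ _ _).trans (h j hj)), h1 (by omega), h2 (by omega),
      ← zpow_add, ← zpow_add, ← zpow_neg]
    congr 1
    push_cast
    ring

end Blk

open Blk in
theorem blackburn {S : Type u} [Group S] [Finite S] {p n i : ℕ} [Fact p.Prime] (hp : p ≠ 2)
    (h : MC p n S) (hi : 1 ≤ i) (hin : i + 2 ≤ n) : twoStep S i = twoStep S 1 := by
  have hp' : p.Prime := Fact.out
  obtain ⟨s, hs⟩ := h.exists_unif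
  obtain ⟨x, hx, hx'⟩ := SetLike.not_le_iff_exists.1 fun e : twoStep S 1 ≤ gam S 1 => by
    have := (h.card_twoStep le_rfl).trans (Nat.mul_le_mul_left _ (card_le_of_le e))
    rw [h.card, h.card_gam le_rfl, ← pow_succ', Nat.pow_le_pow_iff_right hp'.one_lt] at this
    omega
  obtain ⟨y, y0, ys⟩ : ∃ y : ℕ → S, y 0 = x ∧ ∀ j, y (j + 1) = dl s (y j) :=
    ⟨fun j => (dl s)^[j] x, rfl, fun j => Function.iterate_succ_apply' _ _ _⟩
  have ym : ∀ j, y j ∈ gam S j := fun j => by
    induction j with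
    | zero => exact mem_top _
    | succ j ih => exact ys j ▸ dl_mem s ih
  have yn : ∀ j ≤ n, y j ∉ gam S (j + 1) := fun j hj => by
    induction j with
    | zero => exact y0 ▸ hx'
    | succ j ih =>
      rw [ys]
      rcases j with _ | j
      · exact hs.dl_not_mem hj (hs.not_mem_twoStep le_rfl (by omega)) gam_le_twoStep (y0 ▸ hx)
          (y0 ▸ hx')
      · exact hs.dl_not_mem' (by omega) hj (ym _) (ih (by omega))
  have key : ∀ r, r + 2 ≤ n → ∀ a b, a + b = r → ⁅y a, y b⁆ ∈ gam S (r + 2) := fun r => by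
    induction r using Nat.strong_induction_on with
    | _ r ih =>
    intro hr
    have f1 : ∀ a b, a + b + 1 = r → ⁅y a, y (b + 1)⁆ * ⁅y (a + 1), y b⁆ ∈ gam S (r + 2) :=
      fun a b e => by
        rw [← QuotientGroup.eq_one_iff, QuotientGroup.mk_mul, ys, ys, ← der s (ym a) (ym b) (by omega),
          QuotientGroup.eq_one_iff, ← e]
        exact dl_mem s (ih _ (by omega) (by omega) a b rfl)
    have f2 : ∀ a b, a + b = r → (⁅y a, y b⁆ ∈ gam S (r + 2) ↔ ⁅y 0, y r⁆ ∈ gam S (r + 2)) :=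
      fun a => by
        induction a with
        | zero => exact fun b e => by rw [← e, zero_add]
        | succ a ih2 =>
          intro b e
          rw [← ih2 (b + 1) (by omega)]
          have := f1 a b (by omega)
          exact ⟨fun h => (mul_mem_cancel_right h).1 this, fun h => (mul_mem_cancel_left h).1 this⟩
    refine fun a b e => (f2 a b e).2 (by_contra fun hA => ?_)
    obtain ⟨k, rfl⟩ : Odd r := Nat.not_even_iff_odd.1 fun ⟨k, hk⟩ => hA ((f2 k k hk.symm).1 (by
      rw [commutatorElement_self]; exact one_mem _))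
    have k1 : k ≠ 0 := by
      rintro rfl
      exact hA (mem_twoStep.1 (y0 ▸ hx) _ (ym 1))
    have k2 : 2 * k + 1 < p := not_le.1 fun e => by
      obtain ⟨j, hj⟩ := Nat.exists_eq_add_of_le' e
      have := hp'.two_le
      have e1 := hs.twoStep_eq (i := j + 1) (by omega) (by omega)
      rw [show j + 1 + (p - 1) = 2 * k + 1 by omega] at e1
      exact hA (mem_twoStep.1 (e1 ▸ h.mem_twoStep_of (by omega) (ym _) (yn _ (by omega))
        (ih (j + 1) (by omega) (by omega) 0 _ (zero_add _))) _ (ym _))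
    have f3 : ∀ a ≤ 2 * k + 1, ((dl s ⁅y a, y (2 * k + 1 - a)⁆ : S) : S ⧸ gam S (2 * k + 4)) =
        (⁅y a, y (2 * k + 2 - a)⁆ : S) * (⁅y (a + 1), y (2 * k + 2 - (a + 1))⁆ : S) := fun a ha => by
      rw [der s (ym _) (ym _) (by omega), ← ys, ← ys, show 2 * k + 1 - a + 1 = 2 * k + 2 - a by omega,
        show 2 * k + 2 - (a + 1) = 2 * k + 1 - a by omega]
    have f5 : ⁅y 0, y (2 * k + 2)⁆ ∉ gam S (2 * k + 4) := fun e => by
      have f4 := rec_mul (fun a => ((⁅y a, y (2 * k + 2 - a)⁆ : S) : S ⧸ gam S (2 * k + 4))) (k + 1)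
        ((QuotientGroup.eq_one_iff _).2 e) (fun j hj => by
          have := dl_mul s (comm_mem_gam (k := 2 * k + 2) (ym _) (ym _) (by omega))
            (f1 j (2 * k - j) (by omega))
          rw [show 2 * k - j + 1 = 2 * k + 1 - j by omega, f3 j (by omega),
            show 2 * k - j = 2 * k + 1 - (j + 1) by omega, f3 _ (by omega)] at this
          exact this) _ le_rfl
      rw [show 2 * k + 2 - (k + 1) = k + 1 by omega, commutatorElement_self, QuotientGroup.mk_one,
        eq_comm, ← orderOf_dvd_iff_zpow_eq_one, (isUnit_neg_one.pow _).neg.dvd_mul_left,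
        Int.natCast_dvd_natCast, orderOf_dvd_iff_pow_eq_one] at f4
      obtain ⟨m, hm⟩ := h.pg.to_quotient (gam S (2 * k + 4)) (⁅y 1, y (2 * k + 2 - 1)⁆ : S)
      have e2 := (pow_eq_one_iff_of_coprime ((Nat.coprime_of_lt_prime (by omega) (by omega)
        hp').pow_left m)).1 ⟨hm, f4⟩
      have e3 := f3 0 (by omega)
      rw [e2, mul_one, Nat.sub_zero, Nat.sub_zero, (QuotientGroup.eq_one_iff _).2 e,
        QuotientGroup.eq_one_iff] at e3
      exact hs.dl_not_mem' (i := 2 * k + 2) (by omega) hr (comm_mem_gam (ym _) (ym _) (by omega)) hA e3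
    refine f5 (mem_twoStep.1 (h.mem_twoStep_of (by omega) (comm_mem_gam (ym 1) (ym (2 * k)) (by omega))
      (fun e => hA ((f2 1 _ (by omega)).1 e)) ?_) _ (ym _))
    have := der (k := 2 * k + 4) (y 0)⁻¹ (ym 1) (ym (2 * k)) (by omega)
    simp only [dl_eq, inv_inv] at this
    rw [← QuotientGroup.eq_one_iff, this, ← QuotientGroup.mk_mul, QuotientGroup.eq_one_iff]
    exact mul_mem (comm_mem_gam (ym 1) (ih (2 * k) (by omega) (by omega) 0 _ (zero_add _)) (by omega))
      (comm_mem_gam (ih 1 (by omega) (by omega) 0 1 rfl) (ym _) (by omega))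
  have hxi : x ∈ twoStep S i := h.mem_twoStep_of hi (ym i) (yn i (by omega))
    (y0 ▸ key i hin 0 i (zero_add i))
  have e : ∀ j, 1 ≤ j → j + 1 ≤ n → x ∈ twoStep S j → twoStep S j = gam S 1 ⊔ zpowers x :=
    fun j h1 h2 h3 => h.eq_of_le (by
      have := PG.prime_mul_card_le_of_lt (h.pg.to_subgroup _)
        (left_lt_sup.2 fun h1 => hx' (h1 (mem_zpowers x)))
      rw [h.card_gam le_rfl] at this
      rw [h.card, pow_succ', pow_succ']
      exact Nat.mul_le_mul_left _ this) (sup_le gam_le_twoStep (zpowers_le_of_mem h3))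
        (h.twoStep_ne_top h2)
  rw [e i hi (by omega) hxi, e 1 le_rfl (by omega) hx]

end Cfsg.Lib.MCN
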