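import Cfsg.Agent.MCN.Defs

/-! The action of the automizer of a normal essential subgroup on its Frattini quotient. -/

set_option autoImplicit false

namespace Cfsg.Lib.MCN

open Cfsg Cfsg.FusionSystem Subgroup Cfsg.Lib.Fus Cfsg.Lib.Fus.Ess Cfsg.Lib.Grz Cfsg.Lib.Solv
open scoped commutatorElement

universe u

/-- The linear representation attached to an action on an elementary abelian group. -/
def addRep (p : ℕ) {H M : Type*} [Group H] [CommGroup M] [Module (ZMod p) (Additive M)]
    (ψ : H →* MulAut M) : H →* Module.End (ZMod p) (Additive M) where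
  toFun g := (MonoidHom.toAdditive (ψ g).toMonoidHom).toZModLinearMap p
  map_one' := LinearMap.ext fun x => by rw [map_one]; rfl
  map_mul' _ _ := LinearMap.ext fun x => by rw [map_mul]; rfl

theorem addRep_eq_1' : type_of% @addRep.eq_1 := @addRep.eq_1

theorem exists_rep {Ω : Type u} [Group Ω] {S E : Subgroup Ω} [Finite S] {p : ℕ} [hp : Fact p.Prime]
    {F : FusionSystem S} (hS : IsPGroup p S) (hF : F.IsSaturated p) (hE : F.IsEssential p E)
    (hn : (E.subgroupOf S).Normal) :
    ∃ (V : Type u) (_ : AddCommGroup V) (_ : Module (ZMod p) V) (_ : Finite V) (A : Type u)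
      (_ : Group A) (_ : Finite A) (ρ : A →* Module.End (ZMod p) V) (c : S →* A) (π : S → V)
      (H : Subgroup A),
      Rep p (E.subgroupOf S) (((frattini E).map E.subtype).subgroupOf S) ρ c π H := by
  classical
  have hES := hE.1.1
  have := finite_of_le hES
  have := finite_autGroup F hES
  have hEp : IsPGroup p E := hS.to_le hES
  have hN : S ≤ normalizer (E : Set Ω) := (normal_subgroupOf_iff_le_normalizer hES).1 hn
  have hA : AInv (F.autGroup E) (frattini E) := AInv.of_char _
  let θ := (quoHom hA).rangeRestrict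
  have hθ : Function.Surjective θ := MonoidHom.rangeRestrict_surjective _
  have hT := sat_sylIn hS hF hE.2.1
  have hR := ((isRadical_iff_le hS).1 (isRadical_of_isEssential hS hE)).2
  have hker : ∀ a : F.autGroup E, θ a = 1 ↔ a.1 ∈ Inn E := fun a => by
    rw [Subtype.ext_iff]
    refine (quoHom_eq_one_iff hA a).trans ⟨fun h => hR
      ((ptr_of_triv aInv_top hA a.2 h).of_frattini hEp).mem_pCoreIn, ?_⟩
    rintro ⟨g, hg⟩ x -
    rw [← hg, MulAut.conj_apply, inv_mul_conj_eq]
    exact commutator_le_frattini_of_isPGroup hEp (commutator_mem_commutator trivial trivial)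
  have hI := inn_le_autInducedBy hES
  have hmem : ∀ (K : Subgroup (MulAut E)), Inn E ≤ K → ∀ a : F.autGroup E,
      θ a ∈ (K.subgroupOf _).map θ → a.1 ∈ K := by
    rintro K hK a ⟨b, hb, e⟩
    have : (b⁻¹ * a).1 ∈ K := hK ((hker _).1 (by rw [map_mul, map_inv, e, inv_mul_cancel]))
    simpa using K.mul_mem hb this
  have h2 : ∀ g ∈ F.autGroup E, ∀ t ∈ autInducedBy S E, t ∉ Inn E →
      g * t * g⁻¹ ∈ autInducedBy S E → g ∈ closure {α | Extendable F E α} :=
    fun g hg t ht ht1 e => subset_closure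
      ((extendable_iff_of_isCentric hS hF hE.1 hg).2 ⟨t, ht, ht1, e⟩)
  have h3 : autInducedBy S E ≤ closure {α | Extendable F E α} := fun t ht => by
    obtain ⟨u, hu, hu'⟩ := SetLike.not_le_iff_exists.1
      (not_autInducedBy_le_inn hS (isCentric_self hE.1) (lt_of_isEssential hS hF hE))
    exact h2 t (hT.le ht) u hu hu' (mul_mem (mul_mem ht hu) (inv_mem ht))
  have hse : SE p ((⊤ : Subgroup (F.autGroup E)).map θ) (((autInducedBy S E).subgroupOf _).map θ)
      (((closure {α | Extendable F E α}).subgroupOf _).map θ) := by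
    refine ⟨hT.subgroupOf_top.map θ, map_mono fun _ h => h3 h, lt_of_le_of_ne (map_mono le_top)
      fun e => closure_extendable_ne_of_isEssential hS hF hE (le_antisymm
        ((closure_le _).2 fun _ h => h.mem) fun a ha => hmem _ (hI.trans h3) ⟨a, ha⟩
          (e.ge ⟨_, trivial, rfl⟩)), ?_⟩
    rintro _ ⟨g, -, rfl⟩ _ ⟨t, ht, rfl⟩ h1 e
    exact ⟨g, h2 g g.2 t ht (fun e => h1 ((hker t).2 e))
      (hmem _ hI (g * t * g⁻¹) (by rwa [map_mul, map_mul, map_inv])), rfl⟩
  let c₀ : S →* F.autGroup E :=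
    { toFun := fun g => ⟨conjAut E g (hN g.2), conjAut_mem_autGroup F hES g.2 _⟩
      map_one' := Subtype.ext (MulEquiv.ext fun x => Subtype.ext (by simp))
      map_mul' := fun a b => Subtype.ext (conjAut_mul (hN a.2) (hN b.2)) }
  have hc : (θ.comp c₀).range = ((autInducedBy S E).subgroupOf _).map θ := by
    rw [MonoidHom.range_comp]
    congr 1
    ext a
    refine ⟨?_, fun h => ?_⟩
    · rintro ⟨g, rfl⟩; exact conjAut_mem_autInducedBy g.2 _
    · obtain ⟨x, hx, _, e⟩ := mem_autInducedBy'.1 h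
      exact ⟨⟨x, hx⟩, Subtype.ext e.symm⟩
  rw [map_top_of_surjective _ hθ, ← hc] at hse
  let _ : CommGroup (E ⧸ frattini E) :=
    { (inferInstance : Group (E ⧸ frattini E)) with
      mul_comm := fun a b => by
        obtain ⟨a, rfl⟩ := QuotientGroup.mk'_surjective _ a
        obtain ⟨b, rfl⟩ := QuotientGroup.mk'_surjective _ b
        rw [← commutatorElement_eq_one_iff_mul_comm, ← map_commutatorElement]
        exact (QuotientGroup.eq_one_iff _).2
          (commutator_le_frattini_of_isPGroup hEp (commutator_mem_commutator trivial trivial)) }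
  let _ : Module (ZMod p) (Additive (E ⧸ frattini E)) := AddCommGroup.zmodModule fun x => by
    obtain ⟨a, ha⟩ := QuotientGroup.mk_surjective x.toMul
    apply Additive.toMul.injective
    rw [toMul_nsmul, ← ha, ← QuotientGroup.mk_pow]
    exact (QuotientGroup.eq_one_iff _).2 (pow_mem_frattini hEp a)
  let π : S → Additive (E ⧸ frattini E) := fun x =>
    if h : x.1 ∈ E then Additive.ofMul (QuotientGroup.mk ⟨x.1, h⟩) else 0
  have hπ : ∀ (x : S) (h : x.1 ∈ E), π x = Additive.ofMul (QuotientGroup.mk ⟨x.1, h⟩) :=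
    fun x h => dif_pos h
  refine ⟨_, inferInstance, inferInstance, inferInstance, _, inferInstance, inferInstance,
    addRep p (quoHom hA).range.subtype, θ.comp c₀, π, _, fun a b e => ?_, hse, fun M hM hMp => ?_,
    fun x => (hker _).trans (conjAut_mem_inn_iff (isCentric_self hE.1) hES (a := x) ⟨x.2, hN x.2⟩),
    fun x hx y hy => ?_, fun v => ?_, fun x hx => ?_, fun g x hx => ?_, fun a ha => ?_⟩
  · exact Subtype.ext (MulEquiv.ext fun x => LinearMap.congr_fun e (Additive.ofMul x))
  · have h4 : IsPGroup p (M.comap θ) := hMp.comap_of_ker_isPGroup θ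
      (((isPGroup_autInducedBy hS E).comap_subtype (K := F.autGroup E)).to_le fun a ha =>
        hI ((hker a).1 ha))
    refine eq_bot_iff.2 fun m hm => ?_
    obtain ⟨a, rfl⟩ := hθ m
    refine (hker a).2 (hR (le_pCoreIn (map_subtype_le _) (h4.map _) ?_ ⟨a, hm, rfl⟩))
    rintro g hg _ ⟨x, hx, rfl⟩
    exact ⟨_, (hM.comap θ).conj_mem x hx ⟨g, hg⟩, rfl⟩
  · rw [hπ x hx, hπ y hy, hπ _ (E.mul_mem hx hy)]; rfl
  · obtain ⟨a, ha⟩ := QuotientGroup.mk_surjective v.toMul
    exact ⟨⟨a, hES a.2⟩, a.2, by rw [hπ _ a.2]; exact congrArg Additive.ofMul ha⟩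
  · rw [hπ x hx]
    exact (QuotientGroup.eq_one_iff _).trans
      (mem_map_iff_mem (x := ⟨x.1, hx⟩) E.subtype_injective).symm
  · rw [hπ x hx, hπ (g * x * g⁻¹) (hn.conj_mem x hx g)]; rfl
  · obtain ⟨α, rfl⟩ := hθ a
    obtain ⟨g, hg, e⟩ := exists_ext_aut (sat_receptive hS hF hE.2.1) α.2 (U := S)
      (le_inf le_rfl hN) fun x hx => hmem _ hI (α * c₀ ⟨x, hx⟩ * α⁻¹) (by
        rw [← hc, map_mul, map_mul, map_inv]
        exact (mem_normalizer_iff.1 ha _).1 ⟨_, rfl⟩)
    have hi := hg.piso_of_maps fun x hx => hg.maps hx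
    refine ⟨hi.aut, fun x hx => ?_, fun x => ?_⟩
    · have h5 : (hi.aut x : Ω) = α.1 ⟨x, hx⟩ := (e x hx).trans (pext_coe α.1 ⟨x, hx⟩)
      rw [hπ x hx, hπ _ (h5 ▸ (α.1 ⟨x, hx⟩).2)]
      exact congrArg (fun y => Additive.ofMul (QuotientGroup.mk y)) (Subtype.ext h5.symm)
    · refine (by simp : _ = θ (α * c₀ x * α⁻¹)).trans (congrArg θ (Subtype.ext ?_))
      refine aut_ext_pext fun y hy => ?_
      have hy' := pext_mem α.1⁻¹ hy
      change pext E (α.1 * conjAut E x (hN x.2) * α.1⁻¹) y = pext E (conjAut E (g x) (hN (hg.maps x.2))) y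
      rw [pext_conjAut _ hy, pext_mul, pext_mul, pext_conjAut _ hy',
        ← e _ (Fus.conj_mem_of_mem_normalizer (hN x.2) hy'), hg.map_conj x.2 (hES hy'), e _ hy',
        pext_pext_inv]

end Cfsg.Lib.MCN
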