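import Cfsg.Agent.MCN.GamB
import Cfsg.Agent.MCN.Rep
import Cfsg.Agent.MCN.MaxA
import Cfsg.Agent.Fus.R3Index

/-! A normal essential subgroup of a group of maximal class has index `p`. -/

set_option autoImplicit false

namespace Cfsg.Lib.MCN

open Cfsg Cfsg.FusionSystem Subgroup Cfsg.Lib.Fus Cfsg.Lib.Fus.Ess Cfsg.Lib.Grz Cfsg.Lib.Solv

universe u

variable {Ω : Type u} [Group Ω] {S E : Subgroup Ω} [Finite S] {p n : ℕ} [hp : Fact p.Prime]
  {F : FusionSystem S}

theorem index_eq (h5 : 5 ≤ p) (h : MC p n S) (hF : F.IsSaturated p) (hE : F.IsEssential p E)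
    (hn : (E.subgroupOf S).Normal) : (E.subgroupOf S).index = p := by
  have hS := h.pg
  have hES := hE.1.1
  have := finite_of_le hES
  have hN : S ≤ normalizer (E : Set Ω) := (normal_subgroupOf_iff_le_normalizer hES).1 hn
  have hc := card_subgroupOf_of_le hES
  have hm := (E.subgroupOf S).index_mul_card
  obtain ⟨a, ha⟩ := IsPGroup.iff_card.1 (hS.to_le hES)
  obtain ⟨b, hb⟩ := IsPGroup.iff_card.1 ((hS.to_le hES).to_subgroup (frattini E))
  have hlt : a < n + 2 := by
    rw [← Nat.pow_lt_pow_iff_right hp.out.one_lt, ← ha, ← h.card]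
    exact card_lt_card_of_lt (lt_of_isEssential hS hF hE)
  by_cases h1 : a = n + 1
  · rw [hc, ha, h.card, h1, pow_succ' p (n + 1)] at hm
    exact Nat.eq_of_mul_eq_mul_right (pow_pos hp.out.pos _) hm
  exfalso
  have hf := (frattini E).index_mul_card
  have hba : b ≤ a := by
    rw [← Nat.pow_le_pow_iff_right hp.out.one_lt, ← ha, ← hb]
    exact card_le_card_group _
  have hi : (frattini E).index = p ^ (a - b) := by
    rw [ha, hb, ← Nat.sub_add_cancel hba, pow_add] at hf
    exact Nat.eq_of_mul_eq_mul_right (pow_pos hp.out.pos _) hf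
  have h4 : 4 ≤ a - b := by
    by_contra h4
    have := R3.card_normalizerIn_of_rank_le hS hF hE
      (hi ▸ Nat.pow_le_pow_right hp.out.pos (by omega))
    rw [show normalizerIn S E = S from inf_eq_left.2 hN, h.card, ha, ← pow_succ'] at this
    have := Nat.pow_right_injective hp.out.two_le this
    omega
  have e1 := Trans.MaxClass.eq_lowerCentralSeries h.card h.ne (E.subgroupOf S) (i := n - a)
    (by omega) (by rw [hc, ha]; congr 1; omega)
  have hΦ : (frattini E).map E.subtype ≤ S := (map_subtype_le _).trans hES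
  have hΦn : (((frattini E).map E.subtype).subgroupOf S).Normal :=
    have := finite_of_le hΦ
    (normal_subgroupOf_iff_le_normalizer hΦ).2 fun g hg => mem_normalizer_of_finite (by
      rintro _ ⟨x, hx, rfl⟩
      exact ⟨conjAut E g (hN hg) x, AInv.of_char (A := ⊤) (frattini E) _ trivial x hx, rfl⟩)
  have e2 := Trans.MaxClass.eq_lowerCentralSeries h.card h.ne
    (((frattini E).map E.subtype).subgroupOf S) (i := n - b) (by omega) (by
      rw [card_subgroupOf_of_le hΦ, card_map_of_injective E.subtype_injective, hb]; congr 1; omega)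
  obtain ⟨V, _, _, _, A, _, _, ρ, c, π, H, hR⟩ := exists_rep hS hF hE hn
  rw [e1, e2, show n - b + 1 = n - a + 1 + (a - b) by omega] at hR
  exact hR.false h5 h (by omega) (by omega) h4

end Cfsg.Lib.MCN
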