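import Cfsg.Agent.MCN.Lin
import Cfsg.Agent.Solv.HallHigmanCrit

/-! The relative trace from a Sylow subgroup, and the degree filtration on bilinear maps. -/

set_option autoImplicit false

namespace Cfsg.Lib.MCN

open Cfsg Subgroup Cfsg.Lib.Fus Cfsg.Lib.Solv

theorem sum_mem_of_free {k W G ι X : Type*} [Field k] [AddCommGroup W] [Module k W] [Group G]
    [Fintype ι] [MulAction G X] {A : Subgroup G} (e : ι → G) (he : Function.Injective e)
    (heA : ∀ a, a ∈ A ↔ ∃ i, e i = a) (f : X → W) (U : Submodule k W) (Y : Finset X)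
    (h1 : ∀ a ∈ A, ∀ x ∈ Y, a • x ∈ Y) (h2 : ∀ a ∈ A, ∀ x ∈ Y, a • x = x → a = 1)
    (h3 : ∀ x ∈ Y, ∑ i, f (e i • x) ∈ U) : ∑ x ∈ Y, f x ∈ U := by
  classical
  induction Y using Finset.strongInduction with
  | H Y ih =>
  rcases Y.eq_empty_or_nonempty with rfl | ⟨x, hx⟩
  · simp
  have hA : ∀ i, e i ∈ A := fun i => (heA _).2 ⟨i, rfl⟩
  have hO : Finset.univ.image (fun i => e i • x) ⊆ Y := by
    intro y hy
    obtain ⟨i, -, rfl⟩ := Finset.mem_image.1 hy
    exact h1 _ (hA i) x hx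
  rw [← Finset.sum_sdiff hO, Finset.sum_image fun i _ j _ hij => he (inv_mul_eq_one.1
    (h2 _ (A.mul_mem (A.inv_mem (hA i)) (hA j)) x hx (by
      rw [mul_smul, ← show e i • x = e j • x from hij, inv_smul_smul])))]
  refine U.add_mem (ih _ (Finset.sdiff_ssubset hO ?_) (fun a ha y hy => ?_)
    (fun a ha y hy => h2 a ha y (Finset.mem_sdiff.1 hy).1)
    fun y hy => h3 y (Finset.mem_sdiff.1 hy).1) (h3 x hx)
  · obtain ⟨i, -⟩ := (heA 1).1 A.one_mem
    exact ⟨_, Finset.mem_image_of_mem _ (Finset.mem_univ i)⟩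
  · obtain ⟨h4, h5⟩ := Finset.mem_sdiff.1 hy
    refine Finset.mem_sdiff.2 ⟨h1 a ha y h4, fun h6 => h5 ?_⟩
    obtain ⟨i, -, hi⟩ := Finset.mem_image.1 h6
    obtain ⟨j, hj⟩ := (heA _).1 (A.mul_mem (A.inv_mem ha) (hA i))
    exact Finset.mem_image.2 ⟨j, Finset.mem_univ j, by rw [hj, mul_smul, hi, inv_smul_smul]⟩

theorem exists_trace {k W G ι : Type*} [Field k] [AddCommGroup W] [Module k W] [Group G] [Finite G]
    [Fintype ι] {p : ℕ} [Fact p.Prime] [CharP k p] (σ : G →* Module.End k W) {P L A : Subgroup G}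
    (hP : SylIn p P ⊤) (hL : P ≤ L) (hA : A ≤ P) (e : ι → G) (he : Function.Injective e)
    (heA : ∀ a, a ∈ A ↔ ∃ i, e i = a) (β : W) (hβ : ∀ x ∈ P, σ x β = β)
    (hfree : ∀ g ∈ L, g ∉ normalizer (P : Set G) → ∀ a ∈ A, g⁻¹ * a * g ∈ P → a = 1)
    (U : Submodule k W) (hN : ∀ g ∈ L, g ∈ normalizer (P : Set G) → σ g β - β ∈ U)
    (hU : ∀ g ∈ L, ∑ i, σ (e i) (σ g β) ∈ U) :
    ∃ T : W, (∀ g ∈ L, σ g T = T) ∧ ∃ c : k, c ≠ 0 ∧ T - c • β ∈ U := by
  classical
  have := Fintype.ofFinite (G ⧸ P)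
  let f : G ⧸ P → W := fun x => σ x.out β
  have hf : ∀ g : G, f (g : G ⧸ P) = σ g β := fun g => by
    obtain ⟨a, ha⟩ := QuotientGroup.mk_out_eq_mul P g
    simp only [f, ha, map_mul, Module.End.mul_apply, hβ a a.2]
  have hs : ∀ (g : G) (x : G ⧸ P), f (g • x) = σ g (f x) := fun g x => by
    obtain ⟨a, rfl⟩ := QuotientGroup.mk_surjective x
    rw [MulAction.Quotient.smul_mk, hf, hf, smul_eq_mul, map_mul, Module.End.mul_apply]
  have hm : ∀ M : Subgroup G, P ≤ M → ∀ g : G, (g : G ⧸ P).out ∈ M ↔ g ∈ M := fun M hM g => by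
    obtain ⟨a, ha⟩ := QuotientGroup.mk_out_eq_mul P g
    rw [ha, mul_mem_cancel_right (hM a.2)]
  have hm' : ∀ M : Subgroup G, P ≤ M → ∀ g ∈ M, ∀ x : G ⧸ P, (g • x).out ∈ M ↔ x.out ∈ M :=
    fun M hM g hg x => by
      obtain ⟨a, rfl⟩ := QuotientGroup.mk_surjective x
      rw [MulAction.Quotient.smul_mk, hm M hM, hm M hM, smul_eq_mul, mul_mem_cancel_left hg]
  let Y : Finset (G ⧸ P) := Finset.univ.filter fun x => x.out ∈ L
  let N := normalizer (P : Set G)
  have hPN : P ≤ N := le_normalizer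
  refine ⟨∑ x ∈ Y, f x, fun g hg => ?_, ((Y.filter fun x => x.out ∈ N).card : k), ?_, ?_⟩
  · rw [map_sum]
    refine Finset.sum_bijective (fun x => g • x) (MulAction.bijective g) (fun x => ?_)
      fun x _ => (hs g x).symm
    simp [Y, hm' L hL g hg]
  · rw [Ne, CharP.cast_eq_zero_iff k p]
    have h1 : (Y.filter fun x => x.out ∈ N).card = P.relIndex (L ⊓ N) := by
      have h2 := QuotientGroup.card_preimage_mk P ↑(Y.filter fun x => x.out ∈ N)
      rw [show QuotientGroup.mk ⁻¹' ((Y.filter fun x => x.out ∈ N : Finset (G ⧸ P)) : Set (G ⧸ P)) =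
        (L ⊓ N : Subgroup G) from Set.ext fun g => by simp [Y, hm L hL, hm N hPN],
        SetLike.coe_sort_coe, ← PG.relIndex_mul_card (le_inf hL hPN), mul_comm,
        Finset.coe_sort_coe, Nat.card_eq_fintype_card (α := Y.filter _), Fintype.card_coe] at h2
      exact (Nat.eq_of_mul_eq_mul_left Nat.card_pos h2).symm
    rw [h1]
    exact (hP.mono (le_inf hL hPN) le_top).not_dvd_relIndex
  · rw [← Finset.sum_filter_add_sum_filter_not Y fun x => x.out ∈ N, add_sub_right_comm]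
    refine U.add_mem ?_ (sum_mem_of_free e he heA f U _ (fun a ha x hx => ?_)
      (fun a ha x hx h => ?_) fun x hx => ?_)
    · rw [Nat.cast_smul_eq_nsmul, ← Finset.sum_const, ← Finset.sum_sub_distrib]
      refine U.sum_mem fun x hx => ?_
      simp only [Y, Finset.mem_filter] at hx
      exact hN _ hx.1.2 hx.2
    · simpa [Y, hm' L hL a (hL (hA ha)), hm' N hPN a (hPN (hA ha))] using hx
    · simp only [Y, Finset.mem_filter] at hx
      refine hfree _ hx.1.2 hx.2 a ha ?_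
      rw [← x.out_eq', MulAction.Quotient.smul_mk, eq_comm, QuotientGroup.eq] at h
      simpa [mul_assoc] using h
    · simp only [Y, Finset.mem_filter] at hx
      simpa only [hs] using hU _ hx.1.2

theorem sum_pow_eq {k W G : Type*} [Field k] [AddCommGroup W] [Module k W] [Group G] {p : ℕ}
    [Fact p.Prime] [CharP k p] (σ : G →* Module.End k W) (s : G) (w : W) :
    ∑ i : Fin p, σ (s ^ (i : ℕ)) w = ((σ s - 1) ^ (p - 1)) w := by
  have := HH.geom_sum_eq_sub_one_pow k p (σ s) 1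
  rw [pow_one] at this
  rw [← this, LinearMap.sum_apply, ← Fin.sum_univ_eq_sum_range fun i => (σ s ^ i) w]
  simp only [map_pow]

theorem Dg_anti {k V : Type*} [Field k] [AddCommGroup V] [Module k V] (F : ℕ → Submodule k V)
    (c : ℕ) : Antitone (Dg F c) := fun _ _ h _ hβ a b n h1 h2 =>
  hβ a b n h1 (by omega)

theorem mem_Dg_zero {k V : Type*} [Field k] [AddCommGroup V] [Module k V] {F : ℕ → Submodule k V}
    (hF : Antitone F) (h0 : F 0 = ⊤) {c : ℕ} {β : V →ₗ[k] V →ₗ[k] V}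
    (h1 : ∀ v ∈ F c, ∀ w, β v w ∈ F c) (h2 : ∀ v, ∀ w ∈ F c, β v w ∈ F c) : β ∈ Dg F c 0 := by
  intro a b n hn h v hv w hw
  by_cases ha : c ≤ a
  · exact hF hn (h1 v (hF ha hv) w)
  by_cases hb : c ≤ b
  · exact hF hn (h2 v w (hF hb hw))
  obtain rfl : n = 0 := by omega
  exact h0 ▸ Submodule.mem_top

theorem rs_bil {k V G : Type*} [Field k] [AddCommGroup V] [Module k V] [Group G]
    {F : ℕ → Submodule k V} (hF : Antitone F) (h0 : F 0 = ⊤) (ρ : G →* Module.End k V) {x : G}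
    {r : ℕ} (hx : Rs F (ρ x - 1) r) (hx' : Rs F (ρ x⁻¹ - 1) r) (c : ℕ) :
    Rs (Dg F c) (bil ρ x - 1) r := by
  intro e β hβ a b n hn h v hv w hw
  have h1 := hx' a v hv
  have h2 := hx' b w hw
  have e1 : ρ x⁻¹ v = v + (ρ x⁻¹ - 1) v := by simp
  have e2 : ρ x⁻¹ w = w + (ρ x⁻¹ - 1) w := by simp
  generalize (ρ x⁻¹ - 1) v = v' at h1 e1
  generalize (ρ x⁻¹ - 1) w = w' at h2 e2
  have e3 : (bil ρ x - 1) β v w = ρ x (β v' w + β v w' + β v' w') + (ρ x - 1) (β v w) := by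
    simp only [LinearMap.sub_apply, bil_apply, e1, e2, map_add, LinearMap.add_apply,
      Module.End.one_apply]
    abel
  rw [e3]
  refine (F n).add_mem (hx.of_sub_one hF n _ ((F n).add_mem ((F n).add_mem
    (hβ _ _ n hn (by omega) _ h1 _ hw) (hβ _ _ n hn (by omega) _ hv _ h2))
    (hβ _ _ n hn (by omega) _ h1 _ h2))) (hF (by omega : n ≤ n - r + r) (hx _ _ ?_))
  rcases le_or_gt n r with h3 | h3
  · rw [Nat.sub_eq_zero_of_le h3, h0]; trivial
  · exact hβ a b _ (by omega) (by omega) v hv w hw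

end Cfsg.Lib.MCN
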