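import Cfsg.Agent.MCN.Lin
import Cfsg.Agent.MCN.Trace

/-! The centralizer of the central element fixes the flag; the Sylow subgroup is a TI-set. -/

set_option autoImplicit false

namespace Cfsg.Lib.MCN

open Cfsg Subgroup Cfsg.Lib.Fus Cfsg.Lib.Fus.Ess Cfsg.Lib.Grz

variable {p : ℕ} [hp : Fact p.Prime] {V : Type*} [AddCommGroup V] [Module (ZMod p) V]
  {G : Type*} [Group G] {ρ : G →* Module.End (ZMod p) V} {P : Subgroup G}
  {F : ℕ → Submodule (ZMod p) V} {d m : ℕ} {s z g x y : G}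

theorem rho_inv (ρ : G →* Module.End (ZMod p) V) (g : G) (v : V) : ρ g (ρ g⁻¹ v) = v := by
  rw [← Module.End.mul_apply, ← map_mul, mul_inv_cancel, map_one, Module.End.one_apply]

theorem rho_inv' (ρ : G →* Module.End (ZMod p) V) (g : G) (v : V) : ρ g⁻¹ (ρ g v) = v := by
  rw [← Module.End.mul_apply, ← map_mul, inv_mul_cancel, map_one, Module.End.one_apply]

theorem rho_conj (ρ : G →* Module.End (ZMod p) V) (g x : G) (v : V) :
    ρ g ((ρ x - 1) v) = (ρ (g * x * g⁻¹) - 1) (ρ g v) := by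
  simp only [LinearMap.sub_apply, Module.End.one_apply, map_sub, map_mul, Module.End.mul_apply, rho_inv']

theorem rho_comm (ρ : G →* Module.End (ZMod p) V) (e : g * x = x * g) (v : V) :
    ρ g ((ρ x - 1) v) = (ρ x - 1) (ρ g v) := by rw [rho_conj, e, mul_inv_cancel_right]

theorem bil_fix {T : V →ₗ[ZMod p] V →ₗ[ZMod p] V} (e : bil ρ g T = T) (v w : V) :
    ρ g (T v w) = T (ρ g v) (ρ g w) := by
  conv_rhs => rw [← e, bil_apply, rho_inv', rho_inv']

namespace LD

variable (h : LD p ρ P F d s z m)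
include h

theorem comm (hP : ∀ x ∈ P, ∃ i j : ℕ, x = s ^ i * z ^ j) (hx : x ∈ P) (hy : y ∈ P) : x * y = y * x := by
  obtain ⟨i, j, rfl⟩ := hP x hx
  obtain ⟨k, l, rfl⟩ := hP y hy
  have c : Commute s z := (h.z_comm s h.s_mem).symm
  exact (((Commute.refl s).pow_pow _ _).mul_right (c.pow_pow _ _)).mul_left
    ((c.symm.pow_pow _ _).mul_right ((Commute.refl z).pow_pow _ _))

theorem rs_lead (l j : ℕ) : Rs F (ρ (s ^ l * z ^ j) - 1 - (l : ZMod p) • (ρ s - 1)) 2 := by
  have hF := h.flag.anti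
  have := (h.s_ex.rs.pow_sub_one hF l).add (((h.s_ex.rs.pow_sub_one' hF l).of_sub_one hF).mul
    ((h.z_ex.rs.mono hF h.two_le).pow_sub_one' hF j))
  convert this using 1
  rw [map_mul, map_pow, map_pow]
  noncomm_ring

theorem phi_fix {φ : V →ₗ[ZMod p] ZMod p} (hφ : ∀ v, φ v = 0 ↔ v ∈ F 1) (hx : x ∈ P) (v : V) :
    φ (ρ x v) = φ v := by
  have := (hφ _).2 (h.rs x hx 0 v (h.flag.mem_zero v))
  rwa [LinearMap.sub_apply, map_sub, sub_eq_zero] at this

omit h in
theorem phi_wt {φ : V →ₗ[ZMod p] ZMod p} (hφ : ∀ v, φ v = 0 ↔ v ∈ F 1) {c : ZMod p}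
    (e : ∀ v, ρ g v - c • v ∈ F 1) (v : V) : φ v = c * φ (ρ g⁻¹ v) := by
  have := (hφ _).2 (e (ρ g⁻¹ v))
  rwa [rho_inv, map_sub, map_smul, sub_eq_zero] at this

theorem cent_m (e : g * z = z * g) {v : V} (hv : v ∈ F m) : ρ g v ∈ F m := by
  rw [← h.z_ex.range_eq h.flag] at hv ⊢
  obtain ⟨u, rfl⟩ := hv
  exact ⟨_, (rho_comm ρ e u).symm⟩

theorem order_s : orderOf s = p :=
  orderOf_eq_prime h.s_pow (h.ne_one (by have := h.two_le; have := h.lt; omega) h.s_ex)

variable [Finite G]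

theorem cent_le (h2 : 2 * m ≤ d) (hP : ∀ x ∈ P, ∃ i j : ℕ, x = s ^ i * z ^ j) (hw : Wt p ρ P F s z) :
    centralizer {z} ≤ normalizer (P : Set G) := by
  have hF := h.flag.anti
  have m2 := h.two_le
  obtain ⟨φ, v₀, h0, hφ⟩ := h.flag.exists_phi (by omega)
  have hm : ∀ g ∈ centralizer {z}, ∀ v ∈ F m, ρ g v ∈ F m := fun g hg v =>
    h.cent_m (mem_centralizer_singleton_iff.1 hg)
  refine (exists_trace (p := p) (bil ρ) h.syl (L := centralizer {z}) (A := zpowers s)
    (fun x hx => mem_centralizer_singleton_iff.2 (h.z_comm x hx).symm) (zpowers_le.2 h.s_mem)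
    (fun i : Fin p => s ^ (i : ℕ))
    (fun i j e => Fin.ext (pow_injOn_Iio_orderOf (by simp [h.order_s]) (by simp [h.order_s]) e))
    (fun a => ⟨fun ha => by
      obtain ⟨n, rfl⟩ := mem_powers_iff_mem_zpowers.2 ha
      exact ⟨⟨n % p, Nat.mod_lt _ hp.out.pos⟩, (pow_eq_pow_mod n h.s_pow).symm⟩,
      by rintro ⟨i, rfl⟩; exact pow_mem (mem_zpowers s) _⟩)
    (φ.smulRight (ρ s - 1)) (fun x hx => by
      ext v w
      rw [bil_apply, LinearMap.smulRight_apply, LinearMap.smulRight_apply, LinearMap.smul_apply,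
        LinearMap.smul_apply, map_smul, h.phi_fix hφ (inv_mem hx), rho_comm ρ (h.comm hP hx h.s_mem), rho_inv])
    (fun g _ hg a ha e => by
      obtain ⟨n, rfl⟩ := mem_powers_iff_mem_zpowers.2 ha
      by_cases hn : p ∣ n
      · obtain ⟨k, rfl⟩ := hn
        simp [pow_mul, h.s_pow]
      · exact absurd (h.mem_normalizer_of_ex (by simpa using h.ex_pow hn 0) e) hg)
    (Dg F m (2 * m)) (fun g hg hn => ?_) fun g hg => ?_).elim fun T ⟨hT, c, c0, hU⟩ => ?_
  rotate_right
  · have hT' : ∀ v w, T v w = (T - c • φ.smulRight (ρ s - 1)) v w + (c * φ v) • (ρ s - 1) w := fun v w => by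
      simp only [LinearMap.sub_apply, LinearMap.smul_apply, LinearMap.smulRight_apply, smul_smul, sub_add_cancel]
    intro g hg
    have key : ∀ a ≤ m, ∀ v ∈ F a, ρ g v ∈ F a := fun a ha => by
      induction a with
      | zero => exact fun _ _ => h.flag.mem_zero _
      | succ a ih =>
        refine le_of_steps (X := (F (a + 1)).comap (ρ g)) (c := m) (fun v hv => hF ha (hm g hg v hv))
          (fun n h1 h3 u hu => ?_) ha
        obtain ⟨b, rfl⟩ : ∃ b, n = b + 1 := ⟨n - 1, by omega⟩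
        rw [← h.s_ex b] at hu
        obtain ⟨w, hw, rfl⟩ := hu
        have e1 : T v₀ w ∈ (F (a + 1)).comap (ρ g) := by
          have hw' := ih (by omega) w (hF (by omega) hw)
          rw [Submodule.mem_comap, bil_fix (hT g hg), hT']
          exact add_mem (hU 0 a _ ha (by omega) _ (h.flag.mem_zero _) _ hw')
            (Submodule.smul_mem _ _ (h.s_ex.rs a _ hw'))
        have e2 := hU 0 b (b + 1 + 1) (by omega) (by omega) v₀ (h.flag.mem_zero _) w hw
        rw [← Submodule.smul_mem_iff _ c0, ← mul_one c, ← h0, eq_sub_of_add_eq' (hT' v₀ w).symm]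
        exact sub_mem (Submodule.mem_sup_left e1) (Submodule.mem_sup_right e2)
    refine h.mem_normalizer_iff.2 fun a => ?_
    induction a using Nat.strong_induction_on with
    | _ a ih =>
      rcases le_or_gt a m with e | e
      · exact key a e
      obtain ⟨b, rfl⟩ : ∃ b, a = b + m := ⟨a - m, by omega⟩
      intro v hv
      rw [← h.z_ex b] at hv
      obtain ⟨u, hu, rfl⟩ := hv
      rw [rho_comm ρ (mem_centralizer_singleton_iff.1 hg)]
      exact h.z_ex.rs b _ (ih b (by omega) u hu)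
  · obtain ⟨l, j, n, e1, e2, e3⟩ := hw g hn
    rw [mem_centralizer_singleton_iff.1 hg, mul_inv_cancel_right] at e2
    have e4 : (n : ZMod p) = 1 := by
      rw [← Nat.cast_one, ZMod.natCast_eq_natCast_iff, ← orderOf_eq_prime h.z_pow h.z_ne, ← pow_eq_pow_iff_modEq,
        pow_one, ← e2]
    rw [Nat.cast_mul, e4, mul_one] at e3
    have e5 : ∀ v w, (bil ρ g (φ.smulRight (ρ s - 1)) - φ.smulRight (ρ s - 1)) v w =
        φ (ρ g⁻¹ v) • (ρ (s ^ l * z ^ j) - 1 - (l : ZMod p) • (ρ s - 1)) w := fun v w => by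
      rw [LinearMap.sub_apply, LinearMap.sub_apply, bil_apply, LinearMap.smulRight_apply, LinearMap.smulRight_apply,
        LinearMap.smul_apply, LinearMap.smul_apply, map_smul, rho_conj, rho_inv, e1, phi_wt hφ e3 v,
        LinearMap.sub_apply _ (_ • _), LinearMap.smul_apply, smul_sub, smul_smul, mul_comm]
    intro a b k h1 h3 v hv w hw
    rw [e5]
    rcases Nat.eq_zero_or_pos a with rfl | ha
    · exact Submodule.smul_mem _ _ (hF (by omega) (h.rs_lead l j b w hw))
    · rw [(hφ _).2 (h.mem_normalizer_iff.1 (inv_mem hn) 1 v (hF ha hv)), zero_smul]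
      exact zero_mem _
  · rw [sum_pow_eq]
    have p2 : 2 * m ≠ p := fun e => by
      have := h.five
      have := (Nat.prime_dvd_prime_iff_eq Nat.prime_two hp.out).1 ⟨m, e.symm⟩
      omega
    refine Dg_anti F m (by have := h.d_le; omega) (((rs_bil hF h.flag.zero ρ h.s_ex.rs
      (h.rs _ (inv_mem h.s_mem)) m).pow (p - 1)) 0 _ (mem_Dg_zero hF h.flag.zero (fun v hv w => ?_) fun v w hw => ?_))
    · rw [bil_apply, LinearMap.smulRight_apply, (hφ _).2 (hF (by omega) (hm _ (inv_mem hg) v hv)), zero_smul]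
      simp
    · rw [bil_apply, LinearMap.smulRight_apply, LinearMap.smul_apply]
      exact hm g hg _ (Submodule.smul_mem _ _ (hF (by omega) (h.s_ex.rs m _ (hm _ (inv_mem hg) w hw))))

theorem ti (h2 : 2 * m ≤ d) (hP : ∀ x ∈ P, ∃ i j : ℕ, x = s ^ i * z ^ j) (hw : Wt p ρ P F s z) :
    ∀ g, g ∉ normalizer (P : Set G) → ∀ a ∈ P, g⁻¹ * a * g ∈ P → a = 1 := by
  intro g hg a ha e
  obtain ⟨i, j, rfl⟩ := hP a ha
  by_cases hi : p ∣ i
  swap
  · exact absurd (h.mem_normalizer_of_ex (h.ex_pow hi j) e) hg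
  obtain ⟨k, rfl⟩ := hi
  rw [pow_mul, h.s_pow, one_pow, one_mul] at e ⊢
  by_contra a1
  obtain ⟨n, hn⟩ := exists_pow_eq_self_of_coprime (x := z) (n := j) (by
    rw [orderOf_eq_prime h.z_pow h.z_ne, Nat.coprime_comm, hp.out.coprime_iff_not_dvd]
    rintro ⟨k, rfl⟩
    exact a1 (by rw [pow_mul, h.z_pow, one_pow]))
  have e1 : g⁻¹ * z * g ∈ P := by
    have := pow_mem e n
    rwa [show g⁻¹ * z ^ j * g = g⁻¹ * z ^ j * g⁻¹⁻¹ by rw [inv_inv], conj_pow, hn, inv_inv] at this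
  have := h.syl.le_of_normalizes (U := P.map (MulAut.conj g).toMonoidHom) le_top (h.syl.pgroup.map _)
    (le_trans ?_ (h.cent_le h2 hP hw))
  · exact hg (mem_normalizer_of_finite fun y hy => this ⟨y, hy, rfl⟩)
  rintro _ ⟨y, hy, rfl⟩
  refine mem_centralizer_singleton_iff.2 ?_
  change g * y * g⁻¹ * z = z * (g * y * g⁻¹)
  calc _ = g * (y * (g⁻¹ * z * g)) * g⁻¹ := by group
    _ = _ := by rw [h.comm hP hy e1]; group

end LD

end Cfsg.Lib.MCN
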