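import Cfsg.Agent.Grz.Flag
import Cfsg.Agent.Solv.MaxUnif
import Mathlib.Algebra.Module.ZMod
import Mathlib.FieldTheory.IsAlgClosed.AlgebraicClosure
import Mathlib.LinearAlgebra.Matrix.SpecialLinearGroup

/-! Linear groups with a regular unipotent element in a Sylow subgroup: definitions. -/

set_option autoImplicit false

namespace Cfsg.Lib.MCN

open Subgroup Cfsg.Lib.Fus Cfsg.Lib.Fus.Ess Cfsg.Lib.Grz

section Gen

variable {k V : Type*} [Field k] [AddCommGroup V] [Module k V]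

/-- `x` raises the filtration `F` by `r` steps. -/
def Rs (F : ℕ → Submodule k V) (x : Module.End k V) (r : ℕ) : Prop :=
  ∀ a, ∀ v ∈ F a, x v ∈ F (a + r)

theorem Rs_eq_1' : type_of% @Rs.eq_1 := @Rs.eq_1

/-- `x` maps `F a` onto `F (a + r)`. -/
def Ex (F : ℕ → Submodule k V) (x : Module.End k V) (r : ℕ) : Prop :=
  ∀ a, (F a).map x = F (a + r)

theorem Ex_eq_1' : type_of% @Ex.eq_1 := @Ex.eq_1

/-- A full flag of length `d`. -/
structure Flag (F : ℕ → Submodule k V) (d : ℕ) : Prop where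
  zero : F 0 = ⊤
  bot : F d = ⊥
  anti : Antitone F
  step : ∀ a, ∀ v ∈ F a, v ∉ F (a + 1) → ∀ w ∈ F a, ∃ c : k, w - c • v ∈ F (a + 1)
  ne : ∀ a < d, ¬ F a ≤ F (a + 1)

variable {G : Type*} [Group G]

/-- The action on bilinear maps. -/
def bil (ρ : G →* Module.End k V) : G →* Module.End k (V →ₗ[k] V →ₗ[k] V) where
  toFun g :=
    { toFun := fun β => (β.compl₁₂ (ρ g⁻¹) (ρ g⁻¹)).compr₂ (ρ g)
      map_add' := fun _ _ => by ext; simp
      map_smul' := fun _ _ => by ext; simp }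
  map_one' := by ext; simp
  map_mul' _ _ := by ext; simp

theorem bil_eq_1' : type_of% @bil.eq_1 := @bil.eq_1

@[simp] theorem bil_apply (ρ : G →* Module.End k V) (g : G) (β : V →ₗ[k] V →ₗ[k] V) (v w : V) :
    bil ρ g β v w = ρ g (β (ρ g⁻¹ v) (ρ g⁻¹ w)) := rfl

/-- The bilinear maps of degree at least `e - 2 (c - 1)` modulo `F c`. -/
def Dg (F : ℕ → Submodule k V) (c e : ℕ) : Submodule k (V →ₗ[k] V →ₗ[k] V) where
  carrier := {β | ∀ a b n, n ≤ c → (n + 2 * (c - 1) ≤ a + b + e ∨ c ≤ a ∨ c ≤ b) →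
    ∀ v ∈ F a, ∀ w ∈ F b, β v w ∈ F n}
  zero_mem' := fun _ _ n _ _ _ _ _ _ => (F n).zero_mem
  add_mem' := fun h h' a b n h1 h2 v hv w hw =>
    (F n).add_mem (h a b n h1 h2 v hv w hw) (h' a b n h1 h2 v hv w hw)
  smul_mem' := fun r _ h a b n h1 h2 v hv w hw => (F n).smul_mem r (h a b n h1 h2 v hv w hw)

theorem Dg_eq_1' : type_of% @Dg.eq_1 := @Dg.eq_1

theorem mem_Dg {F : ℕ → Submodule k V} {c e : ℕ} {β : V →ₗ[k] V →ₗ[k] V} :
    β ∈ Dg F c e ↔ ∀ a b n, n ≤ c → (n + 2 * (c - 1) ≤ a + b + e ∨ c ≤ a ∨ c ≤ b) →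
      ∀ v ∈ F a, ∀ w ∈ F b, β v w ∈ F n := Iff.rfl

end Gen

section Dat

variable (p : ℕ) [Fact p.Prime] {V : Type*} [AddCommGroup V] [Module (ZMod p) V]
  {G : Type*} [Group G]

/-- A faithful module with a regular unipotent element `s` and a central element `z` of the
Sylow subgroup `P`. -/
structure LD (ρ : G →* Module.End (ZMod p) V) (P : Subgroup G) (F : ℕ → Submodule (ZMod p) V)
    (d : ℕ) (s z : G) (m : ℕ) : Prop where
  five : 5 ≤ p
  inj : Function.Injective ρ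
  syl : SylIn p P ⊤
  op : ∀ M : Subgroup G, M.Normal → IsPGroup p M → M = ⊥
  flag : Flag F d
  d_le : d ≤ p
  rs : ∀ x ∈ P, Rs F (ρ x - 1) 1
  s_mem : s ∈ P
  s_ex : Ex F (ρ s - 1) 1
  z_mem : z ∈ P
  z_comm : ∀ x ∈ P, z * x = x * z
  z_ex : Ex F (ρ z - 1) m
  two_le : 2 ≤ m
  lt : m < d

/-- The weight of the normalizer of `P` on the top factor is the product of those on `s`, `z`. -/
def Wt (ρ : G →* Module.End (ZMod p) V) (P : Subgroup G) (F : ℕ → Submodule (ZMod p) V)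
    (s z : G) : Prop :=
  ∀ g ∈ normalizer (P : Set G), ∃ l j n : ℕ, g * s * g⁻¹ = s ^ l * z ^ j ∧ g * z * g⁻¹ = z ^ n ∧
    ∀ v, ρ g v - ((l * n : ℕ) : ZMod p) • v ∈ F 1

theorem Wt_eq_1' : type_of% @Wt.eq_1 := @Wt.eq_1

/-- The action of the automorphisms of a normal subgroup `E` of `S` on `E / Φ`. -/
structure Rep {S A : Type*} [Group S] [Group A] (E Φ : Subgroup S)
    (ρ : A →* Module.End (ZMod p) V) (c : S →* A) (π : S → V) (H : Subgroup A) : Prop where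
  inj : Function.Injective ρ
  se : SE p ⊤ c.range H
  op : ∀ M : Subgroup A, M.Normal → IsPGroup p M → M = ⊥
  ker : ∀ x, c x = 1 ↔ x ∈ E
  add : ∀ x ∈ E, ∀ y ∈ E, π (x * y) = π x + π y
  surj : ∀ v, ∃ x ∈ E, π x = v
  zero : ∀ x ∈ E, π x = 0 ↔ x ∈ Φ
  act : ∀ g, ∀ x ∈ E, ρ (c g) (π x) = π (g * x * g⁻¹)
  ext : ∀ a ∈ normalizer (c.range : Set A), ∃ τ : MulAut S, (∀ x ∈ E, ρ a (π x) = π (τ x)) ∧
    ∀ g, a * c g * a⁻¹ = c (τ g)

end Dat

/-- The algebraic closure of the prime field. -/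
abbrev Kb (p : ℕ) [Fact p.Prime] : Type := AlgebraicClosure (ZMod p)

/-- `SL₂` over the algebraic closure. -/
abbrev SLb (p : ℕ) [Fact p.Prime] : Type := Matrix.SpecialLinearGroup (Fin 2) (Kb p)

end Cfsg.Lib.MCN
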