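import Cfsg.Agent.MCN.Lin

/-! The flag of `E / Φ` for a term `E` of the lower central series. -/

set_option autoImplicit false

namespace Cfsg.Lib.MCN

open Subgroup Cfsg.Lib.Fus Cfsg.Lib.Fus.Ess Cfsg.Lib.Solv Cfsg.Lib.Trans
open scoped commutatorElement

universe u

variable {p : ℕ} [hp : Fact p.Prime] {V : Type*} [AddCommGroup V] [Module (ZMod p) V]
  {S : Type u} {A : Type*} [Group S] [Group A]
  {ρ : A →* Module.End (ZMod p) V} {c : S →* A} {π : S → V} {H : Subgroup A} {n i d : ℕ} {s : S}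
  {E Φ : Subgroup S}

theorem Rep.pi_one (h : Rep p E Φ ρ c π H) : π 1 = 0 := (h.zero 1 (one_mem _)).2 (one_mem _)

theorem Rep.pi_inv (h : Rep p E Φ ρ c π H) {x : S} (hx : x ∈ E) : π x⁻¹ = -π x := by
  rw [eq_neg_iff_add_eq_zero, ← h.add _ (inv_mem hx) _ hx, inv_mul_cancel, h.pi_one]

theorem Rep.pi_zpow (h : Rep p E Φ ρ c π H) {x : S} (hx : x ∈ E) (k : ℤ) : π (x ^ k) = k • π x := by
  induction k using Int.induction_on with
  | zero => simpa using h.pi_one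
  | succ k ih => rw [zpow_add_one, h.add _ (zpow_mem hx _) _ hx, ih, add_smul, one_smul]
  | pred k ih =>
    rw [zpow_sub_one, h.add _ (zpow_mem hx _) _ (inv_mem hx), ih, h.pi_inv hx, sub_smul, one_smul,
      sub_eq_add_neg]

theorem Rep.pi_comm [E.Normal] (h : Rep p E Φ ρ c π H) (g : S) {x : S} (hx : x ∈ E) :
    (ρ (c g) - 1) (π x) = π ⁅g, x⁆ := by
  rw [commutatorElement_def, h.add _ (Normal.conj_mem ‹_› _ hx _) _ (inv_mem hx), h.pi_inv hx,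
    ← h.act g x hx, LinearMap.sub_apply, Module.End.one_apply, sub_eq_add_neg]

/-- The image of a subgroup of `E`. -/
def Rep.img (h : Rep p E Φ ρ c π H) (K : Subgroup S) (hK : K ≤ E) : Submodule (ZMod p) V :=
  AddSubgroup.toZModSubmodule p
    { carrier := {v | ∃ x ∈ K, π x = v}
      zero_mem' := ⟨1, one_mem _, h.pi_one⟩
      add_mem' := by
        rintro _ _ ⟨x, hx, rfl⟩ ⟨y, hy, rfl⟩
        exact ⟨_, mul_mem hx hy, h.add _ (hK hx) _ (hK hy)⟩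
      neg_mem' := by
        rintro _ ⟨x, hx, rfl⟩
        exact ⟨_, inv_mem hx, h.pi_inv (hK hx)⟩ }

theorem Rep.img_eq_1' : type_of% @Rep.img.eq_1 := @Rep.img.eq_1

theorem Rep.mem_img (h : Rep p E Φ ρ c π H) {K : Subgroup S} (hK : K ≤ E) {v : V} :
    v ∈ h.img K hK ↔ ∃ x ∈ K, π x = v := Iff.rfl

theorem Rep.pi_mem_img (h : Rep p E Φ ρ c π H) {K : Subgroup S} (hK : K ≤ E) (hΦ : Φ ≤ K) {y : S}
    (hy : y ∈ E) : π y ∈ h.img K hK ↔ y ∈ K := by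
  refine ⟨fun ⟨x, hx, e⟩ => ?_, fun hy => ⟨y, hy, rfl⟩⟩
  refine (mul_mem_cancel_left (inv_mem hx)).1 (hΦ ((h.zero _ (mul_mem (inv_mem (hK hx)) hy)).1 ?_))
  rw [h.add _ (inv_mem (hK hx)) _ hy, h.pi_inv (hK hx), e, neg_add_cancel]

variable [Finite V] [Finite S] [Finite A]

omit [Finite V] [Finite A] in
theorem Rep.exists_flag (h : Rep p (gam S i) (gam S (i + d)) ρ c π H) (_hp : p ≠ 2)
    (hs : Unif p n s) (hi : 1 ≤ i) (hd : i + d ≤ n + 1) (hd0 : 1 ≤ d) :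
    ∃ F : ℕ → Submodule (ZMod p) V, Flag F d ∧ d ≤ p ∧
      (∀ a v, v ∈ F a ↔ ∃ x ∈ gam S (i + a), π x = v) ∧
      (∀ g, Rs F (ρ (c g) - 1) 1) ∧ Ex F (ρ (c s) - 1) 1 ∧
      (∀ g a, a + 2 ≤ d → ((∀ v ∈ F a, (ρ (c g) - 1) v ∈ F (a + 2)) ↔ g ∈ twoStep S (i + a))) := by
  have le : ∀ a, gam S (i + a) ≤ gam S i := fun a => gam_anti (Nat.le_add_right _ _)
  obtain ⟨F, hF⟩ : ∃ F : ℕ → Submodule (ZMod p) V, ∀ a, F a = h.img _ (le a) := ⟨_, fun _ => rfl⟩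
  have m1 : ∀ a v, v ∈ F a ↔ ∃ x ∈ gam S (i + a), π x = v := fun a v => hF a ▸ Iff.rfl
  have m2 : ∀ {a}, a ≤ d → ∀ {y}, y ∈ gam S i → (π y ∈ F a ↔ y ∈ gam S (i + a)) := fun ha _ hy =>
    hF _ ▸ h.pi_mem_img _ (gam_anti (by omega)) hy
  have anti : Antitone F := fun a b hab v hv => by
    obtain ⟨x, hx, rfl⟩ := (m1 _ _).1 hv
    exact (m1 _ _).2 ⟨x, gam_anti (by omega) hx, rfl⟩
  have fl : Flag F d := by
    refine ⟨eq_top_iff.2 fun v _ => (m1 _ _).2 (h.surj v), eq_bot_iff.2 fun v hv => ?_, anti,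
      fun a v hv hv' w hw => ?_, fun a ha e => ?_⟩
    · obtain ⟨x, hx, rfl⟩ := (m1 _ _).1 hv
      exact (h.zero x (le _ hx)).2 hx
    · obtain ⟨x, hx, rfl⟩ := (m1 _ _).1 hv
      obtain ⟨y, hy, rfl⟩ := (m1 _ _).1 hw
      rw [← hs.mc.sup_zpowers (by omega) hx fun e => hv' ((m1 _ _).2 ⟨x, e, rfl⟩)] at hy
      obtain ⟨z, hz, _, ⟨k, rfl⟩, rfl⟩ := mem_sup_of_normal_left.1 hy
      refine ⟨k, (m1 _ _).2 ⟨z, hz, ?_⟩⟩
      rw [h.add _ (le (a + 1) hz) _ (zpow_mem (le _ hx) k), h.pi_zpow (le _ hx), Int.cast_smul_eq_zsmul,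
        add_sub_cancel_right]
    · obtain ⟨x, hx, hx'⟩ := hs.mc.exists_not_mem (i := i + a) (by omega) (by omega)
      exact hx' ((m2 ha (le _ hx)).1 (e ((m1 _ _).2 ⟨x, hx, rfl⟩)))
  have rs : ∀ g, Rs F (ρ (c g) - 1) 1 := fun g a v hv => by
    obtain ⟨x, hx, rfl⟩ := (m1 _ _).1 hv
    exact (m1 _ _).2 ⟨_, comm_mem_gam (i := 0) (mem_top g) hx (by omega),
      (h.pi_comm g (le _ hx)).symm⟩
  have ts : ∀ g a, a + 2 ≤ d →
      ((∀ v ∈ F a, (ρ (c g) - 1) v ∈ F (a + 2)) ↔ g ∈ twoStep S (i + a)) := fun g a ha => by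
    have k : ∀ x ∈ gam S (i + a), (ρ (c g) - 1) (π x) ∈ F (a + 2) ↔ ⁅g, x⁆ ∈ gam S (i + a + 2) :=
      fun x hx => by
        rw [h.pi_comm g (le _ hx), m2 ha (comm_mem_gam (i := 0) (mem_top g) hx (by omega)), add_assoc]
    refine ⟨fun e => mem_twoStep.2 fun x hx => (k x hx).1 (e _ ((m1 _ _).2 ⟨x, hx, rfl⟩)),
      fun e v hv => ?_⟩
    obtain ⟨x, hx, rfl⟩ := (m1 _ _).1 hv
    exact (k x hx).2 (mem_twoStep.1 e x hx)
  have ex : Ex F (ρ (c s) - 1) 1 := fl.ex_of (rs s) fun a ha => by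
    by_contra! e
    exact hs.not_mem_twoStep (by omega) (by omega) ((ts s a ha).1 e)
  refine ⟨F, fl, not_lt.1 fun e => ?_, m1, rs, ex, ts⟩
  rcases subsingleton_or_nontrivial (Module.End (ZMod p) V) with h1 | h1
  · obtain ⟨v, -, hv⟩ := ex.exists_not_mem fl (a := 0) (by have := hp.out.two_le; omega)
    exact hv (by simp [Subsingleton.elim (ρ (c s) - 1) 0])
  have : CharP (Module.End (ZMod p) V) p :=
    charP_of_injective_algebraMap (algebraMap (ZMod p) _).injective p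
  obtain ⟨v, -, hv⟩ := (ex.pow p).exists_not_mem fl (a := 0) (by omega)
  rw [sub_pow_char_of_commute _ (Commute.one_right _), one_pow, ← map_pow, ← map_pow,
    (h.ker _).2 (gam_anti (by omega) ((MaxClass.center_eq hs.card hs.mc.ne (by omega)).le
      (hs.pow_mem_center (by omega)))), map_one, sub_self] at hv
  exact hv (zero_mem _)

end Cfsg.Lib.MCN
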