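import Cfsg.Agent.MCN.T1

/-! An invariant bilinear map kills the central element. -/

set_option autoImplicit false

namespace Cfsg.Lib.MCN

open Cfsg Subgroup Cfsg.Lib.Fus Cfsg.Lib.Fus.Ess Cfsg.Lib.Grz

variable {p : ℕ} [hp : Fact p.Prime] {V : Type*} [AddCommGroup V] [Module (ZMod p) V]
  {G : Type*} [Group G] {ρ : G →* Module.End (ZMod p) V} {P : Subgroup G}
  {F : ℕ → Submodule (ZMod p) V} {d m : ℕ} {s z g x y : G}

namespace LD

variable (h : LD p ρ P F d s z m)
include h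

theorem rs_z_inv : Rs F (ρ z⁻¹ - 1) m := by
  have := (((h.rs _ (inv_mem h.z_mem)).of_sub_one h.flag.anti).mul h.z_ex.rs).neg
  rwa [zero_add, mul_sub, ← map_mul, inv_mul_cancel, map_one, mul_one, neg_sub] at this

theorem false_of_inv (h1 : ∀ g, ∀ v ∈ F 1, ρ g v ∈ F 1)
    (h2 : ∀ g a, (∀ v ∈ F a, ρ g v ∈ F a) → ∀ v ∈ F (a + (1 + m)), ρ g v ∈ F (a + (1 + m))) : False := by
  have m2 := h.two_le
  have key : ∀ g q, (∀ v ∈ F (q * (1 + m)), ρ g v ∈ F (q * (1 + m))) ∧
      ∀ v ∈ F (q * (1 + m) + 1), ρ g v ∈ F (q * (1 + m) + 1) := fun g q => by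
    induction q with
    | zero => exact ⟨fun _ _ => by simpa using h.flag.mem_zero _, by simpa using h1 g⟩
    | succ q ih =>
      rw [add_mul, one_mul, add_right_comm]
      exact ⟨h2 g _ ih.1, h2 g _ ih.2⟩
  obtain ⟨M, -, h3, h4, h5⟩ := exists_chain_sub (p := p) h.inj ⊤ (fun j => F (j / 2 * (1 + m) + j % 2)) (2 * d)
    (by simpa using h.flag.zero) (h.flag.eq_bot (by
      rw [show 2 * d / 2 = d by omega, mul_add]; omega)) fun g _ j => by
      rcases Nat.mod_two_eq_zero_or_one j with e | e <;> simp only [add_zero, e]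
      exacts [(key g _).1, (key g _).2]
  have := h.op M ⟨fun a ha g => h4 g trivial a ha⟩ h3
  refine h.z_ne (this.le (h5 z trivial fun j v hv => h.flag.anti ?_ (h.z_ex.rs _ v hv)))
  obtain ⟨q, rfl | rfl⟩ := Nat.even_or_odd' j
  · rw [show (2 * q + 1) / 2 = q by omega, show 2 * q / 2 = q by omega]; omega
  · rw [show (2 * q + 1 + 1) / 2 = q + 1 by omega, show (2 * q + 1) / 2 = q by omega, add_mul]; omega

variable [Finite G]

theorem caseT (h2 : 2 * m ≤ d) (hP : ∀ x ∈ P, ∃ i j : ℕ, x = s ^ i * z ^ j) (hw : Wt p ρ P F s z)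
    (hti : ∀ g, g ∉ normalizer (P : Set G) → ∀ a ∈ P, g⁻¹ * a * g ∈ P → a = 1) : False := by
  have hF := h.flag.anti
  have m2 := h.two_le
  have h5 := h.five
  have hd := h.d_le
  obtain ⟨φ, v₀, h0, hφ⟩ := h.flag.exists_phi (by omega)
  have c : Commute s z := (h.z_comm s h.s_mem).symm
  refine (exists_trace (p := p) (bil ρ) h.syl (L := ⊤) (A := P) le_top le_rfl
    (fun i : Fin p × Fin p => s ^ (i.1 : ℕ) * z ^ (i.2 : ℕ)) (fun i j e => ?_)
    (fun a => ⟨fun ha => by
      obtain ⟨i, j, rfl⟩ := hP a ha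
      exact ⟨(⟨i % p, Nat.mod_lt _ hp.out.pos⟩, ⟨j % p, Nat.mod_lt _ hp.out.pos⟩), by
        rw [← pow_eq_pow_mod i h.s_pow, ← pow_eq_pow_mod j h.z_pow]⟩,
      by rintro ⟨i, rfl⟩; exact mul_mem (pow_mem h.s_mem _) (pow_mem h.z_mem _)⟩)
    (φ.smulRight ((ρ s - 1) * (ρ z - 1))) (fun x hx => by
      ext v w
      rw [bil_apply, LinearMap.smulRight_apply, LinearMap.smulRight_apply, LinearMap.smul_apply,
        LinearMap.smul_apply, map_smul, h.phi_fix hφ (inv_mem hx), Module.End.mul_apply, Module.End.mul_apply,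
        rho_comm ρ (h.comm hP hx h.s_mem), rho_comm ρ (h.comm hP hx h.z_mem), rho_inv])
    (fun g _ => hti g) (Dg F d (2 * (d - 1) + m + 2) ⊓ ⨅ v ∈ F 1, LinearMap.ker (LinearMap.applyₗ v))
    (fun g _ hn => ?_) fun g _ => ?_).elim fun T ⟨hT, c, c0, hU, hU'⟩ => ?_
  · have e1 : s ^ (i.1 + (p - j.1) : ℕ) * z ^ (i.2 + (p - j.2) : ℕ) = 1 := by
      rw [pow_add, pow_add, (c.pow_pow _ _).mul_mul_mul_comm, show s ^ (i.1 : ℕ) * z ^ (i.2 : ℕ) = _ from e,
        (c.symm.pow_pow _ _).mul_mul_mul_comm, ← pow_add, ← pow_add, Nat.add_sub_cancel' j.1.2.le,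
        Nat.add_sub_cancel' j.2.2.le, h.s_pow, h.z_pow, one_mul]
    obtain ⟨⟨a, ha⟩, b, hb⟩ := h.pow_mul_pow_eq_one e1
    have k : ∀ {x y : Fin p} {a : ℕ}, x + (p - y) = p * a → x = y := fun {x y a} e => Fin.ext (by
      have := x.2
      have := y.2
      rcases a with _ | _ | a
      · omega
      · omega
      · rw [mul_add, mul_add] at e; omega)
    exact Prod.ext (k ha) (k hb)
  · obtain ⟨l, j, n, e1, e2, e3⟩ := hw g hn
    have r1 := h.rs_lead l j
    have r2 := h.z_ex.rs.pow_sub_one hF n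
    rw [← map_pow] at r2
    have r3 := (((h.s_ex.rs.smul (l : ZMod p)).mul r2).mono hF (show m + 2 ≤ 1 + (m + m) by omega)).add
      ((r1.mul (h.z_ex.rs.pow_sub_one' hF n)).mono hF (show m + 2 ≤ 2 + m by omega))
    rw [← map_pow] at r3
    obtain ⟨Q, hQ, r3⟩ : ∃ Q, _ = Q ∧ Rs F Q (m + 2) := ⟨_, rfl, r3⟩
    have e4 : (ρ (s ^ l * z ^ j) - 1) * (ρ (z ^ n) - 1) =
        Q + ((l * n : ℕ) : ZMod p) • ((ρ s - 1) * (ρ z - 1)) := by
      rw [← hQ, Nat.cast_mul, ← smul_smul, ← mul_smul_comm, ← smul_mul_assoc]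
      noncomm_ring
    have e5 : ∀ v w, (bil ρ g (φ.smulRight ((ρ s - 1) * (ρ z - 1))) - φ.smulRight ((ρ s - 1) * (ρ z - 1))) v w =
        φ (ρ g⁻¹ v) • Q w := fun v w => by
      rw [LinearMap.sub_apply, LinearMap.sub_apply, bil_apply, LinearMap.smulRight_apply, LinearMap.smulRight_apply,
        LinearMap.smul_apply, LinearMap.smul_apply, map_smul, Module.End.mul_apply, rho_conj, rho_conj, rho_inv, e1,
        e2, phi_wt hφ e3 v, ← Module.End.mul_apply, e4, LinearMap.add_apply, LinearMap.smul_apply, smul_add,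
        smul_smul, mul_comm (φ _), add_sub_cancel_right]
    have e6 : ∀ v ∈ F 1, φ (ρ g⁻¹ v) = 0 := fun v hv => (hφ _).2 (h.mem_normalizer_iff.1 (inv_mem hn) 1 v hv)
    refine ⟨fun a b k h1 h3 v hv w hw => ?_, ?_⟩
    · rw [e5]
      rcases Nat.eq_zero_or_pos a with rfl | ha
      · exact Submodule.smul_mem _ _ (hF (by omega) (r3 b w hw))
      · rw [e6 v (hF ha hv), zero_smul]
        exact zero_mem _
    · simp only [SetLike.mem_coe, Submodule.mem_iInf, LinearMap.mem_ker, LinearMap.applyₗ_apply_apply]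
      intro v hv
      ext w
      rw [e5, e6 v hv, zero_smul, LinearMap.zero_apply]
  · generalize bil ρ g _ = γ
    simp only [map_mul, Module.End.mul_apply, Fintype.sum_prod_type, ← map_sum, sum_pow_eq]
    have e := ((rs_bil hF h.flag.zero ρ h.s_ex.rs (h.rs _ (inv_mem h.s_mem)) d).pow (p - 1)) _ _
      (((rs_bil hF h.flag.zero ρ h.z_ex.rs h.rs_z_inv d).pow (p - 1)) 0 γ (mem_Dg_zero hF h.flag.zero
        (fun v hv w => by rw [h.flag.bot, Submodule.mem_bot] at hv; simp [hv])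
        fun v w hw => by rw [h.flag.bot, Submodule.mem_bot] at hw; simp [hw]))
    have i1 : (p - 2) * 2 ≤ (p - 2) * m := Nat.mul_le_mul_left _ m2
    have i2 : (p - 1) * m = (p - 2) * m + m := by rw [show p - 1 = p - 2 + 1 by omega, add_mul, one_mul]
    refine ⟨Dg_anti F d (by omega) e, ?_⟩
    simp only [SetLike.mem_coe, Submodule.mem_iInf, LinearMap.mem_ker, LinearMap.applyₗ_apply_apply]
    intro v hv
    ext w
    have := e 1 0 d le_rfl (by omega) v hv w (h.flag.mem_zero w)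
    rwa [h.flag.bot, Submodule.mem_bot] at this
  · simp only [SetLike.mem_coe, Submodule.mem_iInf, LinearMap.mem_ker, LinearMap.applyₗ_apply_apply] at hU'
    have e1 : Ex F (T v₀) (1 + m) := by
      have := (h.s_ex.mul h.z_ex).add_rs h.flag (y := (T - c • φ.smulRight ((ρ s - 1) * (ρ z - 1))) v₀)
        (fun b w hw => by
          rcases le_or_gt (b + (1 + m + 1)) d with e | e
          · exact hU 0 b _ e (by omega) _ (h.flag.mem_zero _) w hw
          · rw [h.flag.eq_bot e.le, ← h.flag.bot]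
            exact hU 0 b _ le_rfl (by omega) _ (h.flag.mem_zero _) w hw) c0
      rwa [LinearMap.sub_apply, LinearMap.smul_apply, LinearMap.smulRight_apply, h0, one_smul, add_sub_cancel] at this
    have e2 : ∀ v ∈ F 1, T v = 0 := fun v hv => by
      have := hU' v hv
      rwa [LinearMap.sub_apply, LinearMap.smul_apply, LinearMap.smulRight_apply, (hφ v).2 hv, zero_smul, smul_zero,
        sub_zero] at this
    have e3 : ∀ v, T v = φ v • T v₀ := fun v => by
      have := e2 (v - φ v • v₀) ((hφ _).1 (by simp [h0]))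
      rwa [map_sub, map_smul, sub_eq_zero] at this
    refine h.false_of_inv (fun g v hv => (hφ _).1 ?_) fun g a ha u hu => ?_
    · obtain ⟨w, -, hw⟩ := e1.exists_not_mem h.flag (a := 0) (by omega)
      have := bil_fix (hT g trivial) v (ρ g⁻¹ w)
      rw [e2 v hv, rho_inv, e3 (ρ g v), LinearMap.zero_apply, map_zero, LinearMap.smul_apply, eq_comm,
        smul_eq_zero] at this
      exact this.resolve_right fun e => hw (e ▸ zero_mem _)
    · rw [← e1 a] at hu
      obtain ⟨w, hw, rfl⟩ := hu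
      rw [bil_fix (hT g trivial), e3]
      exact Submodule.smul_mem _ _ (e1.rs a _ (ha w hw))

end LD

end Cfsg.Lib.MCN
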