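import Cfsg.Agent.MCN.GamA
import Cfsg.Agent.MCN.Blk
import Cfsg.Agent.MCN.T1
import Cfsg.Agent.MCN.T2
import Cfsg.Agent.MCN.CaseQ
import Cfsg.Agent.Grz.MaxFive

/-! A term of the lower central series gives the linear configuration. -/

set_option autoImplicit false

namespace Cfsg.Lib.MCN

open Cfsg Subgroup Cfsg.Lib.Fus Cfsg.Lib.Fus.Ess Cfsg.Lib.Grz Cfsg.Lib.Solv
open scoped commutatorElement

universe u

variable {p : ℕ} [hp : Fact p.Prime] {V : Type*} [AddCommGroup V] [Module (ZMod p) V] [Finite V]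
  {S : Type u} {A : Type*} [Group S] [Finite S] [Group A] [Finite A]
  {ρ : A →* Module.End (ZMod p) V} {c : S →* A} {π : S → V} {H : Subgroup A} {n i d : ℕ} {s : S}

omit [Finite V] [Finite S] [Finite A] in
theorem Rep.pi_pow {E Φ : Subgroup S} (h : Rep p E Φ ρ c π H) {x : S} (hx : x ∈ E) (k : ℕ) :
    π (x ^ k) = (k : ZMod p) • π x := by
  induction k with
  | zero =>
    have := h.add 1 E.one_mem 1 E.one_mem
    simpa using this
  | succ k ih => rw [pow_succ, h.add _ (pow_mem hx k) _ hx, ih, Nat.cast_succ, add_smul, one_smul]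

theorem exists_x1 (hs : Unif p n s) (hn : 2 ≤ n) : ∃ x ∈ twoStep S 1, x ∉ gam S 1 ∧
    ⁅x, s⁆ ∉ gam S 2 ∧ gam S 1 ⊔ zpowers x = twoStep S 1 ∧ twoStep S 1 ⊔ zpowers s = ⊤ := by
  have h := hs.mc
  have h1 := h.card_twoStep (i := 1) le_rfl
  have h2 := prime_mul_card_le_card h.pg (h.twoStep_ne_top (i := 1) hn)
  have h3 := h.card_gam (i := 1) le_rfl
  rw [h.card, pow_succ'] at h1 h2
  have h4 := Nat.le_of_mul_le_mul_left h1 hp.out.pos
  have h5 := Nat.le_of_mul_le_mul_left h2 hp.out.pos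
  obtain ⟨x, hx, hx'⟩ : ∃ x ∈ twoStep S 1, x ∉ gam S 1 := by
    by_contra! e
    have := h4.trans (card_le_card_of_le (show twoStep S 1 ≤ gam S 1 from e))
    rw [h3, Nat.pow_le_pow_iff_right hp.out.one_lt] at this
    omega
  have h6 := hs.not_mem_twoStep (i := 1) le_rfl hn
  refine ⟨x, hx, hx', fun e => ?_, sup_zpowers_eq_of_card_le (h.pg.to_subgroup _)
    (by rw [h3, ← pow_succ']; exact h5) gam_le_twoStep hx hx',
    sup_zpowers_eq_of_card_le (h.pg.to_subgroup ⊤) (card_top.trans_le (h.card_twoStep le_rfl))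
      le_top trivial h6⟩
  refine hs.dl_not_mem (i := 0) (by omega) h6 gam_le_twoStep hx hx' ?_
  rw [show dl s x = s⁻¹ * ⁅x, s⁆ * s⁻¹⁻¹ by rw [dl, commutatorElement_def]; group]
  exact (inferInstance : (gam S 2).Normal).conj_mem _ e _

theorem Rep.false (h : Rep p (gam S i) (gam S (i + d)) ρ c π H) (h5 : 5 ≤ p) (hS : MC p n S)
    (hi : 1 ≤ i) (hd : i + d ≤ n + 1) (h4 : 4 ≤ d) : False := by
  obtain ⟨s, hs⟩ := hS.exists_unif
  obtain ⟨F, hF, hdp, hm, h1, h2, h3⟩ := h.exists_flag (by omega) hs hi hd (by omega)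
  obtain ⟨x, hx, hx', hxs, e1, e2⟩ := exists_x1 hs (by omega)
  have hB : ∀ g ∈ c.range, ∀ a b, a + 3 ≤ d → b + 3 ≤ d → (∀ v ∈ F a, (ρ g - 1) v ∈ F (a + 2)) →
      ∀ v ∈ F b, (ρ g - 1) v ∈ F (b + 2) := by
    rintro _ ⟨g, rfl⟩ a b ha hb e
    rw [h3 g _ (by omega), blackburn (by omega) hS (by omega) (by omega)] at e ⊢
    exact e
  have hc : ∀ a b : S, ⁅a, b⁆ ∈ gam S i → c a * c b = c b * c a := fun a b e => by
    rw [← commutatorElement_eq_one_iff_mul_comm, ← map_commutatorElement]; exact (h.ker _).2 e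
  have hLD : ∀ z ∈ twoStep S i, z ∉ gam S i → (∀ g, ⁅z, g⁆ ∈ gam S i) →
      ∃ m, LD p ρ c.range F d (c s) (c z) m := fun z hz hz' hzc => by
    obtain ⟨m, hm, e⟩ := hF.exists_ex (x := ρ (c z) - 1) h2 (by
      have := congrArg ρ (hc z s (hzc s))
      rw [map_mul, map_mul] at this
      simp only [sub_mul, mul_sub, one_mul, mul_one, this]; abel) fun e =>
        hz' ((h.ker z).1 (h.inj ((sub_eq_zero.1 e).trans ρ.map_one.symm)))
    refine ⟨m, h5, h.inj, h.se.syl, h.op, hF, hdp, ?_, ⟨s, rfl⟩, h2, ⟨z, rfl⟩, ?_, e, ?_, hm⟩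
    · rintro _ ⟨g, rfl⟩; exact h1 g
    · rintro _ ⟨g, rfl⟩; exact hc z g (hzc g)
    · refine (hF.le_iff hm).1 ?_
      rw [← e.range_eq hF]
      rintro _ ⟨v, rfl⟩
      exact (h3 z 0 (by omega)).2 hz v (hF.mem_zero v)
  have g1 : ∀ a b : S, ⁅a, b⁆ ∈ gam S 1 := fun a b =>
    comm_mem_gam (i := 0) (j := 0) trivial trivial le_rfl
  rcases hi.eq_or_lt with rfl | hi2
  · obtain ⟨m, hL⟩ := hLD x hx hx' (g1 x)
    rcases le_or_gt (2 * m) d with h6 | h6
    swap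
    · exact hL.caseQ h6 h4 h.se hB
    have hd1 : ∀ g : S, ∃ a b : ℕ, ∃ w ∈ twoStep S 1, g = s ^ a * w ∧ c w = c x ^ b := fun g => by
      obtain ⟨a, w, hw, e⟩ := exists_mul_pow (e2.ge (mem_top g))
      obtain ⟨b, w', hw', e'⟩ := exists_mul_pow (e1.ge hw)
      exact ⟨a, b, w, hw, e, by rw [e', map_mul, (h.ker _).2 hw', mul_one, map_pow]⟩
    have hP : ∀ g ∈ c.range, ∃ a b : ℕ, g = c s ^ a * c x ^ b := by
      rintro _ ⟨g, rfl⟩
      obtain ⟨a, b, w, -, rfl, e⟩ := hd1 g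
      exact ⟨a, b, by rw [map_mul, map_pow, e]⟩
    have hw : Wt p ρ c.range F (c s) (c x) := fun a ha => by
      obtain ⟨τ, t1, t2⟩ := h.ext a ha
      obtain ⟨l, j, w, hw, e3, e4⟩ := hd1 (τ s)
      obtain ⟨k, w', hw', e5⟩ := exists_mul_pow (e1.ge (twoStep_map 1 τ x hx))
      have v1 : Ev τ s l (twoStep S 1) := by rwa [Ev, e3, inv_mul_cancel_left]
      have v2 : Ev τ x k (gam S 1) := by rwa [Ev, e5, inv_mul_cancel_left]
      have v3 : Ev τ ⁅s, x⁆ (l * k) (gam S 2) := v1.comm v2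
        (comm_mem_gam (j := 0) (g1 _ _) trivial le_rfl) (comm_mem_gam (j := 0) (g1 _ _) trivial le_rfl)
        (fun c hc => hS.commutator_le (hS.twoStep_ne_top (by omega)) gam_le_twoStep
          (commutator_mem_commutator hc (twoStep_map 1 τ x hx)))
        fun c hc => comm_mem_gam (i := 0) trivial hc le_rfl
      refine ⟨l, j, k, by rw [t2, e3, map_mul, map_pow, e4],
        by rw [t2, e5, map_mul, (h.ker _).2 hw', mul_one, map_pow], fun v => ?_⟩
      obtain ⟨y, hy, rfl⟩ := h.surj v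
      have v4 : Ev τ y (l * k) (gam S 2) := v3.of_mem (char_mem _ τ)
        ((hS.sup_zpowers le_rfl (g1 s x) fun e => hxs (comm_mem_symm e)).ge hy)
      refine (hm 1 _).2 ⟨_, v4, ?_⟩
      have := h.add _ (pow_mem hy (l * k)) _ (gam_anti one_le_two v4)
      rw [mul_inv_cancel_left, h.pi_pow hy] at this
      rw [t1 y hy, this, add_sub_cancel_left]
    exact hL.caseT h6 hP hw (hL.ti h6 hP hw)
  · obtain ⟨j, rfl⟩ : ∃ j, i = j + 2 := ⟨i - 2, by omega⟩
    obtain ⟨y, hy, hy'⟩ : ∃ y ∈ gam S j, ⁅y, s⁆ ∉ gam S (j + 2) := by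
      rcases Nat.eq_zero_or_pos j with rfl | hj
      · exact ⟨x, trivial, hxs⟩
      · obtain ⟨y, hy, hy'⟩ := hS.exists_not_mem hj (by omega)
        exact ⟨y, hy, fun e => hs.not_mem_twoStep hj (by omega)
          (hS.mem_twoStep_of hj hy hy' (comm_mem_symm e))⟩
    have hz : ⁅y, s⁆ ∈ gam S (j + 1) := comm_mem_gam (j := 0) hy trivial le_rfl
    obtain ⟨m, hL⟩ := hLD _ (gam_le_twoStep (g1 y s)) hy' fun g =>
      comm_mem_gam (j := 0) hz trivial le_rfl
    exact hL.caseQ (hL.big (y := c y) ⟨y, rfl⟩ (by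
      rw [map_commutatorElement, commutatorElement_def, inv_mul_cancel_right])) h4 h.se hB

end Cfsg.Lib.MCN
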