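import Cfsg.Agent.MCN.Lin
import Cfsg.Agent.S0801
import Cfsg.Agent.Trans.Quasisimple

/-! The subgroup of `SL₂` generated by two opposite transvections. -/

set_option autoImplicit false

namespace Cfsg.Lib.MCN

open Subgroup Matrix
open scoped commutatorElement IntermediateField

section
variable {F : Type*} [Field F]

theorem qs_ext {g h : SpecialLinearGroup (Fin 2) F} (a : g 0 0 = h 0 0) (b : g 0 1 = h 0 1)
    (c : g 1 0 = h 1 0) (d : g 1 1 = h 1 1) : g = h :=
  Subtype.ext (Matrix.ext fun i j => by fin_cases i <;> fin_cases j <;> assumption)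

theorem qs_det (g : SpecialLinearGroup (Fin 2) F) : g 0 0 * g 1 1 - g 0 1 * g 1 0 = 1 := by
  rw [← Matrix.det_fin_two]; exact g.det_coe

theorem qs_mul (g h : SpecialLinearGroup (Fin 2) F) (i j : Fin 2) :
    (g * h) i j = g i 0 * h 0 j + g i 1 * h 1 j := by
  simp [Matrix.mul_apply, Fin.sum_univ_two]

theorem qs_sq (h2 : (2 : F) ≠ 0) {g : SpecialLinearGroup (Fin 2) F} (h : g * g = 1) :
    g = 1 ∨ g = -1 := by
  have e0 := qs_det g
  have e : ∀ i j, g i 0 * g 0 j + g i 1 * g 1 j = (1 : SpecialLinearGroup (Fin 2) F) i j :=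
    fun i j => by rw [← h, qs_mul]
  have e1 : g 0 0 * g 0 0 + g 0 1 * g 1 0 = 1 := by simpa using e 0 0
  have e2 : g 0 0 * g 0 1 + g 0 1 * g 1 1 = 0 := by simpa using e 0 1
  have e3 : g 1 0 * g 0 0 + g 1 1 * g 1 0 = 0 := by simpa using e 1 0
  have e4 : g 0 0 + g 1 1 ≠ 0 := fun e4 => h2 (by linear_combination g 0 0 * e4 - e0 - e1)
  have e5 : g 0 1 = 0 := mul_right_cancel₀ e4 (by linear_combination e2)
  have e6 : g 1 0 = 0 := mul_right_cancel₀ e4 (by linear_combination e3)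
  rw [e5, zero_mul] at e0 e1
  rcases mul_self_eq_one_iff.1 (by linear_combination e1 : g 0 0 * g 0 0 = 1) with e7 | e7
  · refine .inl (qs_ext (by simpa using e7) (by simpa using e5) (by simpa using e6) ?_)
    rw [e7] at e0
    simpa using e0
  · refine .inr (qs_ext (by simpa using e7) (by simpa using e5) (by simpa using e6) ?_)
    rw [e7] at e0
    have : g 1 1 = -1 := by linear_combination -e0
    simpa using this

theorem qs_cen (h2 : (2 : F) ≠ 0) {l : F} (hl : l ≠ 0) {u v y : SpecialLinearGroup (Fin 2) F}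
    (hu : (u : Matrix (Fin 2) (Fin 2) F) = !![1, l; 0, 1])
    (hv : (v : Matrix (Fin 2) (Fin 2) F) = !![1, 0; 1, 1]) (h1 : ⁅y, u⁆ = 1 ∨ ⁅y, u⁆ = -1)
    (h1' : ⁅y, v⁆ = 1 ∨ ⁅y, v⁆ = -1) : y = 1 ∨ y = -1 := by
  have k : ∀ g : SpecialLinearGroup (Fin 2) F, ⁅y, g⁆ = 1 ∨ ⁅y, g⁆ = -1 →
      (∀ i j, y i 0 * g 0 j + y i 1 * g 1 j = g i 0 * y 0 j + g i 1 * y 1 j) ∨
      ∀ i j, y i 0 * g 0 j + y i 1 * g 1 j = -(g i 0 * y 0 j + g i 1 * y 1 j) := fun g hg => by
    have e : y * g = ⁅y, g⁆ * (g * y) := by rw [commutatorElement_def]; group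
    refine hg.imp (fun h i j => ?_) fun h i j => ?_
    · rw [← qs_mul, ← qs_mul, e, h, one_mul]
    · rw [← qs_mul, ← qs_mul, e, h, neg_one_mul]; rfl
  have e0 := qs_det y
  have a : y 1 0 = 0 ∧ y 0 0 = y 1 1 := by
    rcases k u h1 with e | e
    · have a1 := e 0 0
      have a2 := e 0 1
      simp [hu, hl] at a1 a2
      exact ⟨a1, mul_right_cancel₀ hl (by linear_combination a2)⟩
    · have a1 := e 0 0
      have a2 := e 1 0
      simp only [hu, of_apply, cons_val', cons_val_zero, cons_val_one, cons_val_fin_one] at a1 a2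
      have a3 : y 1 0 = 0 := mul_left_cancel₀ h2 (by linear_combination a2)
      have a4 : y 0 0 = 0 := mul_left_cancel₀ h2 (by linear_combination a1 - l * a3)
      simp [a3, a4] at e0
  have b : y 0 1 = 0 := by
    rcases k v h1' with e | e
    · simpa [hv] using e 0 0
    · have a2 := e 0 1
      simp only [hv, of_apply, cons_val', cons_val_zero, cons_val_one, cons_val_fin_one] at a2
      exact mul_left_cancel₀ h2 (by linear_combination a2)
  refine qs_sq h2 (qs_ext ?_ ?_ ?_ ?_) <;> rw [qs_mul] <;> simp [a.1, b, a.2] at e0 ⊢ <;> exact e0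

end

theorem qs_ne {p : ℕ} (h5 : 5 ≤ p) {F : Type*} [Field F] [CharP F p] : (2 : F) ≠ 0 ∧ (3 : F) ≠ 0 :=
  ⟨fun e => absurd (Nat.le_of_dvd two_pos ((CharP.cast_eq_zero_iff F p 2).1 (by exact_mod_cast e)))
    (by omega), fun e => absurd (Nat.le_of_dvd three_pos
      ((CharP.cast_eq_zero_iff F p 3).1 (by exact_mod_cast e))) (by omega)⟩

variable {p : ℕ} [Fact p.Prime]

theorem sl2_facts (h5 : 5 ≤ p) {l : Kb p} (hl : l ≠ 0) {u v : SLb p}
    (hu : (u : Matrix (Fin 2) (Fin 2) (Kb p)) = !![1, l; 0, 1])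
    (hv : (v : Matrix (Fin 2) (Fin 2) (Kb p)) = !![1, 0; 1, 1]) {Γ : Subgroup (SLb p)}
    (hΓ : Γ = closure {u, v}) :
    (∀ M ≤ Γ, (∀ g ∈ Γ, ∀ x ∈ M, g * x * g⁻¹ ∈ M) → M = Γ ∨ ∀ x ∈ M, x = 1 ∨ x = -1) ∧
      (∃ x ∈ Γ, x * x = -1) ∧
      (∀ y ∈ Γ, (∀ g ∈ Γ, ⁅y, g⁆ = 1 ∨ ⁅y, g⁆ = -1) → y = 1 ∨ y = -1) ∧
      (∀ x : SLb p, x * x = 1 → x = 1 ∨ x = -1) ∧ (-1 : SLb p) ≠ 1 ∧ u ^ p = 1 ∧ u ≠ 1 ∧
        u ≠ -1 ∧ v ^ p = 1 := by
  obtain ⟨h2, -⟩ := qs_ne h5 (F := Kb p)
  have uΓ : u ∈ Γ := hΓ ▸ subset_closure (.inl rfl)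
  have vΓ : v ∈ Γ := hΓ ▸ subset_closure (.inr rfl)
  let L := Subfield.closure ({l} : Set (Kb p))
  have fd : FiniteDimensional (ZMod p) (ZMod p)⟮l⟯ :=
    IntermediateField.adjoin.finiteDimensional (Algebra.IsIntegral.isIntegral l)
  have : Finite (ZMod p)⟮l⟯ := Module.finite_of_finite (ZMod p)
  have hL : L ≤ (ZMod p)⟮l⟯.toSubfield := Subfield.closure_le.2 (by
    rintro _ rfl; exact IntermediateField.mem_adjoin_simple_self _ _)
  have : Finite L := Finite.of_injective _ (Subfield.inclusion hL).injective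
  have := Fintype.ofFinite L
  let l' : L := ⟨l, Subfield.subset_closure rfl⟩
  have hgen : Subfield.closure {l'} = ⊤ := eq_top_iff.2 fun x _ => by
    have : x.1 ∈ (Subfield.closure {l'}).map L.subtype := by
      rw [RingHom.map_field_closure, Set.image_singleton]; exact x.2
    obtain ⟨y, hy, e⟩ := this
    exact (Subtype.ext e : y = x) ▸ hy
  obtain ⟨k2, k3⟩ := qs_ne h5 (F := L)
  have top := ((Cfsg.Agent.S0801.result k2 l' (fun e => hl (congrArg Subtype.val e)) hgen).resolve_right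
    fun e => k3 (by
      have := FiniteField.cast_card_eq_zero L
      rw [e.1] at this
      exact pow_eq_zero_iff two_ne_zero |>.1 (by push_cast at this; linear_combination this))).1
  let f : SpecialLinearGroup (Fin 2) L →* SLb p := SpecialLinearGroup.map L.subtype
  have hf : ∀ g i j, f g i j = (g i j : L) := fun g i j => rfl
  have rg : f.range = Γ := by
    rw [MonoidHom.range_eq_map, ← top, MonoidHom.map_closure, hΓ]
    congr 1
    ext x
    constructor
    · rintro ⟨g, hg | hg, rfl⟩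
      · exact .inr (qs_ext (by simp [hf, hg, hv]) (by simp [hf, hg, hv]) (by simp [hf, hg, hv])
          (by simp [hf, hg, hv]))
      · exact .inl (qs_ext (by simp [hf, hg, hu]) (by simp [hf, hg, hu, l']) (by simp [hf, hg, hu])
          (by simp [hf, hg, hu]))
    · rintro (rfl | rfl)
      · exact ⟨Class.slU l', .inr rfl, qs_ext (by simp [hf, hu]) (by simp [hf, hu, l'])
          (by simp [hf, hu]) (by simp [hf, hu])⟩
      · exact ⟨Class.slV 1, .inl rfl, qs_ext (by simp [hf, hv]) (by simp [hf, hv])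
          (by simp [hf, hv]) (by simp [hf, hv])⟩
  have k4 : (2 : L) ^ 2 ≠ 1 := fun e => k3 (by linear_combination e)
  have qs : IsQuasisimple (SpecialLinearGroup (Fin 2) L) :=
    ⟨⟨SL2.commutator_eq_top k2 k4⟩, ProjectiveSpecialLinearGroup.rank_two_simple' ⟨2, k2, k4⟩⟩
  have n1 : (-1 : SLb p) ≠ 1 := fun e => h2 (by
    have := congrArg (fun g : SLb p => g 0 0) e
    simp at this
    linear_combination -this)
  obtain ⟨j, hj⟩ : ∃ j : SpecialLinearGroup (Fin 2) L, (j : Matrix (Fin 2) (Fin 2) L) =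
    !![0, 1; -1, 0] := ⟨⟨!![0, 1; -1, 0], by simp⟩, rfl⟩
  refine ⟨fun M hM hn => ?_, ⟨f j, rg ▸ ⟨_, rfl⟩, ?_⟩,
    fun y _ hy => qs_cen h2 hl hu hv (hy u uΓ) (hy v vΓ), fun x => qs_sq h2, n1, ?_, fun e => hl ?_,
    fun e => h2 ?_, ?_⟩
  · rcases Trans.IsQuasisimple.eq_top_or_le_center qs (M.comap f) ⟨fun x hx g => by
      rw [mem_comap, map_mul, map_mul, map_inv]; exact hn _ (rg ▸ ⟨g, rfl⟩) _ hx⟩ with e | e
    · exact .inl (hM.antisymm (rg ▸ by rintro _ ⟨g, rfl⟩; exact e.ge (mem_top g)))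
    · refine .inr fun x hx => ?_
      have cm : ∀ g ∈ Γ, ⁅x, g⁆ = 1 := fun g hg => by
        obtain ⟨x, rfl⟩ := rg.ge (hM hx)
        obtain ⟨g, rfl⟩ := rg.ge hg
        rw [← map_commutatorElement, commutatorElement_eq_one_iff_mul_comm.2
          (mem_center_iff.1 (e hx) g).symm, map_one]
      exact qs_cen h2 hl hu hv (.inl (cm u uΓ)) (.inl (cm v vΓ))
  · refine qs_ext ?_ ?_ ?_ ?_ <;> rw [qs_mul] <;> simp [hf, hj]
  · rw [show u = Class.slU l from Subtype.ext hu]; exact Class.slU_pow_char p l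
  · simpa [hu] using congrArg (fun g : SLb p => g 0 1) e
  · have := congrArg (fun g : SLb p => g 0 0) e
    simp [hu] at this
    linear_combination this
  · rw [show v = Class.slV 1 from Subtype.ext hv]; exact Class.slV_pow_char p 1

end Cfsg.Lib.MCN
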